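import Groth.Agent.BranchCount.Stages
import Groth.Agent.NormDim1.CardSigma
import Groth.Agent.Hensel.StrictQuot
import Groth.Agent.S13598
import Mathlib.RingTheory.AdicCompletion.LocalRing
import Mathlib.RingTheory.AdicCompletion.AsTensorProduct

/-!
# Branches of quotients and of completions
-/

set_option autoImplicit false
universe u

open TensorProduct IsLocalRing

namespace Groth.Agent.BranchCount

section Split

variable {A S : Type u} [CommRing A] [CommRing S] [Algebra A S] [Module.Flat A S]

theorem mem_minimalPrimes_map_iff (hT : Hensel.TrivialFibres A S) {p : Ideal A} (hp : p ∈ minimalPrimes A) (q : Ideal S) :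
    q ∈ (p.map (algebraMap A S)).minimalPrimes ↔ q ∈ minimalPrimes S ∧ q.comap (algebraMap A S) = p := by
  haveI := hp.1.1
  constructor
  · intro hq
    haveI := hq.1.1
    have h1 : p ≤ q.comap (algebraMap A S) := Ideal.map_le_iff_le_comap.1 hq.1.2
    obtain ⟨q0, hle, hq0, hover⟩ : ∃ Q ≤ q, Q.IsPrime ∧ Q.LiesOver p :=
      Ideal.exists_ideal_le_liesOver_of_le (p := p) (q := q.under A) q h1
    haveI := hq0
    have h2 : q0.comap (algebraMap A S) = p := (hover.over).symm
    have h3 := hq.2 ⟨hq0, Ideal.map_le_iff_le_comap.2 h2.ge⟩ hle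
    obtain rfl : q0 = q := le_antisymm hle h3
    exact ⟨NormSH.minimal_of_over_minimal hT (h2.symm ▸ hp), h2⟩
  · rintro ⟨hq, hqp⟩
    exact ⟨⟨hq.1.1, Ideal.map_le_iff_le_comap.2 hqp.ge⟩, fun r hr hle => hq.2 ⟨hr.1, bot_le⟩ hle⟩

theorem card_eq_finsum (hT : Hensel.TrivialFibres A S) (h : (minimalPrimes A).Finite) :
    ENat.card (minimalPrimes S) = ∑ᶠ p : minimalPrimes A, ENat.card (minimalPrimes (S ⧸ p.1.map (algebraMap A S))) := by
  let e : minimalPrimes S ≃ Σ p : minimalPrimes A, (p.1.map (algebraMap A S)).minimalPrimes :=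
    { toFun := fun q => ⟨⟨q.1.comap (algebraMap A S), NormSH.minimal_under_of_flat A (B := S) q.2⟩, q.1,
        (mem_minimalPrimes_map_iff hT (NormSH.minimal_under_of_flat A (B := S) q.2) q.1).2 ⟨q.2, rfl⟩⟩
      invFun := fun x => ⟨x.2.1, ((mem_minimalPrimes_map_iff hT x.1.2 _).1 x.2.2).1⟩
      left_inv := fun q => rfl
      right_inv := by
        rintro ⟨⟨p, hp⟩, ⟨q, hq⟩⟩
        obtain ⟨-, rfl⟩ := (mem_minimalPrimes_map_iff hT hp q).1 hq
        rfl }
  haveI := h.fintype
  rw [ENat.card_congr e, NormDim1.card_sigma, tsum_fintype, finsum_eq_sum_of_fintype]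
  refine Finset.sum_congr rfl fun p _ => ENat.card_congr ?_
  refine (Equiv.Set.image (Ideal.comap (Ideal.Quotient.mk (p.1.map (algebraMap A S)))) (minimalPrimes _)
    (Ideal.comap_injective_of_surjective _ Ideal.Quotient.mk_surjective)).trans (Equiv.setCongr ?_) |>.symm
  exact Ideal.minimalPrimes_eq_comap.symm

end Split

section Quot

variable {A S : Type u} [CommRing A] [IsLocalRing A] [CommRing S] [IsLocalRing S] [Algebra A S]
  [IsLocalHom (algebraMap A S)] [Module.Flat A S]

theorem quot_instances (p : Ideal A) [p.IsPrime] :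
    IsLocalRing (A ⧸ p) ∧ ∃ _ : IsLocalRing (S ⧸ p.map (algebraMap A S)),
      IsLocalHom (algebraMap (A ⧸ p) (S ⧸ p.map (algebraMap A S))) := by
  have hne : p.map (algebraMap A S) ≠ ⊤ := fun h => by
    have h1 : p.map (algebraMap A S) ≤ maximalIdeal S :=
      (Ideal.map_mono (le_maximalIdeal (Ideal.IsPrime.ne_top ‹_›))).trans (((local_hom_TFAE (algebraMap A S)).out 0 2).1 ‹_›)
    exact (maximalIdeal.isMaximal S).ne_top (top_le_iff.1 (h ▸ h1))
  haveI : Nontrivial (A ⧸ p) := Ideal.Quotient.nontrivial_iff.2 (Ideal.IsPrime.ne_top ‹_›)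
  haveI : Nontrivial (S ⧸ p.map (algebraMap A S)) := Ideal.Quotient.nontrivial_iff.2 hne
  haveI : IsLocalRing (A ⧸ p) := IsLocalRing.of_surjective' _ (Ideal.Quotient.mk_surjective (I := p))
  haveI : IsLocalRing (S ⧸ p.map (algebraMap A S)) := IsLocalRing.of_surjective' _ (Ideal.Quotient.mk_surjective (I := p.map (algebraMap A S)))
  haveI : IsLocalHom (Ideal.Quotient.mk (p.map (algebraMap A S))) := IsLocalHom.of_surjective _ Ideal.Quotient.mk_surjective
  refine ⟨inferInstance, inferInstance, ⟨fun x hx => ?_⟩⟩
  obtain ⟨a, rfl⟩ := Ideal.Quotient.mk_surjective x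
  exact (IsUnit.of_map (algebraMap A S) a (IsUnit.of_map (Ideal.Quotient.mk (p.map (algebraMap A S))) _ hx)).map _

end Quot

theorem numBranches_eq_finsum (A : Type u) [CommRing A] [IsLocalRing A] (h : (minimalPrimes A).Finite) :
    Brnch.numBranches A = ∑ᶠ p : minimalPrimes A, haveI : p.1.IsPrime := p.2.1.1
      Brnch.numBranches (A ⧸ p.1) := by
  let K := ResidueField A
  rw [← card_henselization (A := A) (S := Hensel.Hens A (ResidueField A)),
    card_eq_finsum Hensel.henselization_trivialFibres h]
  refine finsum_congr fun p => ?_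
  haveI : p.1.IsPrime := p.2.1.1
  obtain ⟨i1, i2, i3⟩ := quot_instances (S := Hensel.Hens A (ResidueField A)) p.1
  haveI := i1; haveI := i2; haveI := i3
  haveI := Groth.Agent.S13598.result (S := Hensel.Hens A (ResidueField A)) p.1 (le_maximalIdeal (Ideal.IsPrime.ne_top inferInstance))
  exact card_henselization

theorem numGeomBranches_eq_finsum (A : Type u) [CommRing A] [IsLocalRing A] (h : (minimalPrimes A).Finite) :
    Brnch.numGeomBranches A = ∑ᶠ p : minimalPrimes A, haveI : p.1.IsPrime := p.2.1.1
      Brnch.numGeomBranches (A ⧸ p.1) := by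
  obtain ⟨S, _, _, _, _, hS⟩ := Hensel.exists_isStrictHenselization A
  rw [← card_strictHenselization (A := A) (S := S), card_eq_finsum Hensel.strictHenselization_trivialFibres h]
  refine finsum_congr fun p => ?_
  haveI : p.1.IsPrime := p.2.1.1
  obtain ⟨i1, i2, i3⟩ := quot_instances (S := S) p.1
  haveI := i1; haveI := i2; haveI := i3
  haveI := Hensel.isStrictHenselization_quotient (R := A) (S := S) p.1
  exact card_strictHenselization

theorem numGeomBranches_eq_one_iff (A : Type u) [CommRing A] [IsLocalRing A] :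
    Brnch.numGeomBranches A = 1 ↔ CAlg2.IsGeomUnibranch A := by
  obtain ⟨S, _, _, _, _, hS⟩ := Hensel.exists_isStrictHenselization A
  rw [← card_strictHenselization (A := A) (S := S), Branch.isGeomUnibranch_iff (A := A) (S := S)]
  constructor
  · intro h
    haveI : Subsingleton (minimalPrimes S) := ENat.card_le_one_iff_subsingleton _ |>.1 h.le
    haveI : Nonempty (minimalPrimes S) := by
      rw [← not_isEmpty_iff]
      intro hE
      rw [(ENat.card_eq_zero_iff_empty (α := minimalPrimes S)).2 hE] at h
      exact zero_ne_one h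
    obtain ⟨p⟩ := ‹Nonempty (minimalPrimes S)›
    exact ⟨p.1, p.2, fun q hq => congrArg Subtype.val (Subsingleton.elim (⟨q, hq⟩ : minimalPrimes S) p)⟩
  · rintro ⟨p, hp, hu⟩
    let _ : Unique (minimalPrimes S) := ⟨⟨⟨p, hp⟩⟩, fun q => Subtype.ext (hu q.1 q.2)⟩
    rw [ENat.card_eq_coe_fintype_card, Fintype.card_unique, Nat.cast_one]

theorem comap_mem_minimalPrimes_of_ringEquiv {R S : Type u} [CommRing R] [CommRing S] (e : R ≃+* S) {P : Ideal S}
    (hP : P ∈ minimalPrimes S) : P.comap e.toRingHom ∈ minimalPrimes R := by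
  haveI := hP.1.1
  refine ⟨⟨Ideal.IsPrime.comap _, bot_le⟩, fun Q hQ hle z hz => ?_⟩
  have h1 := hP.2 ⟨hQ.1.comap e.symm.toRingHom, bot_le⟩ fun w hw => by
    have h : e (e.symm w) ∈ P := hle hw
    rwa [e.apply_symm_apply] at h
  have h2 : e.symm (e z) ∈ Q := h1 hz
  rwa [e.symm_apply_apply] at h2

section Completion

variable {A : Type u} [CommRing A] [IsLocalRing A]

theorem hens_iso_local {R K S T : Type u} [CommRing R] [Field K] [Algebra R K] [CommRing S] [IsLocalRing S] [Algebra R S]
    [CommRing T] [IsLocalRing T] [Algebra R T] (e : Hensel.Hens R K ≃ₐ[R] S) (g : S →ₐ[R] T) [IsLocalHom g.toRingHom] :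
    ∀ z, IsUnit ((g.comp e.toAlgHom) z) → IsUnit z := fun z hz => by
  have h1 : IsUnit (e z) := IsUnit.of_map g.toRingHom _ hz
  simpa using h1.map e.symm

variable [IsNoetherianRing A]

theorem completion_minimalPrimes (S : Type u) [CommRing S] [IsLocalRing S] [Algebra A S] [IsLocalHom (algebraMap A S)]
    [Hensel.IsHenselization A S] (ψ : S →+* AdicCompletion (IsLocalRing.maximalIdeal A) A)
    (hψ : ψ.comp (algebraMap A S) = algebraMap A (AdicCompletion (IsLocalRing.maximalIdeal A) A)) :
    Set.MapsTo (Ideal.comap ψ) (minimalPrimes (AdicCompletion (IsLocalRing.maximalIdeal A) A)) (minimalPrimes S) ∧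
      Set.SurjOn (Ideal.comap ψ) (minimalPrimes (AdicCompletion (IsLocalRing.maximalIdeal A) A)) (minimalPrimes S) := by
  let T := AdicCompletion (IsLocalRing.maximalIdeal A) A
  haveI : Module.Flat A T := AdicCompletion.flat_of_isNoetherian _
  let g : S →ₐ[A] T := { ψ with commutes' := RingHom.congr_fun hψ }
  haveI : IsLocalHom g.toRingHom := ((local_hom_TFAE _).out 2 0).1 (by
    show (maximalIdeal S).map ψ ≤ maximalIdeal T
    rw [← Hensel.henselization_map_maximalIdeal (R := A) (S := S), Ideal.map_map, hψ]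
    exact (AdicCompletion.maximalIdeal_eq_map (R := A)).ge)
  obtain ⟨e⟩ := Hensel.exists_algEquiv_hens (R := A) (S := S)
  let f : Hensel.Hens A (ResidueField A) →ₐ[A] T := g.comp e.toAlgHom
  have hf := hens_iso_local e g
  constructor
  · intro P hP
    have h1 := comap_hens_mem_minimalPrimes f hf hP
    have h2 := comap_mem_minimalPrimes_of_ringEquiv e.symm.toRingEquiv h1
    convert h2 using 1
    ext z
    show ψ z ∈ P ↔ ψ (e (e.symm z)) ∈ P
    rw [AlgEquiv.apply_symm_apply]
  · intro p hp
    have hinj : Function.Injective g := fun x y hxy => by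
      obtain ⟨x, rfl⟩ := e.surjective x
      obtain ⟨y, rfl⟩ := e.surjective y
      exact congrArg e (hens_hom_injective f hf hxy)
    obtain ⟨P, hP, hPp⟩ := exists_minimal_of_injective ψ hinj hp
    exact ⟨P, hP, hPp⟩

theorem numBranches_le_completion :
    Brnch.numBranches A ≤ Brnch.numBranches (AdicCompletion (IsLocalRing.maximalIdeal A) A) ∧
      Brnch.numGeomBranches A ≤ Brnch.numGeomBranches (AdicCompletion (IsLocalRing.maximalIdeal A) A) := by
  let C := AdicCompletion (IsLocalRing.maximalIdeal A) A
  haveI : Module.Flat A C := AdicCompletion.flat_of_isNoetherian _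
  haveI : IsLocalHom (algebraMap A C) := ((local_hom_TFAE _).out 2 0).1 (AdicCompletion.maximalIdeal_eq_map (R := A)).ge
  constructor
  · have hH : _root_.Hensel.IsHenselization A (Hensel.Hens A (ResidueField A)) := inferInstance
    have hH' : _root_.Hensel.IsHenselization C (Hensel.Hens C (ResidueField C)) := inferInstance
    let S := Hensel.Hens A (ResidueField A)
    let T := Hensel.Hens C (ResidueField C)
    haveI : Module.Flat C T := Hensel.henselization_flat
    letI : Algebra A T := ((algebraMap C T).comp (algebraMap A C)).toAlgebra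
    haveI : IsScalarTower A C T := IsScalarTower.of_algebraMap_eq' rfl
    haveI : Module.Flat A T := Module.Flat.trans A C T
    haveI : HenselianLocalRing T := hH'.henselian
    haveI : IsLocalHom (algebraMap A T) := RingHom.isLocalHom_comp _ _
    obtain ⟨g0, hg0, -⟩ := hH.universal T (algebraMap A T) inferInstance
    let g : S →ₐ[A] T := { g0 with commutes' := RingHom.congr_fun hg0 }
    haveI : IsLocalHom g.toRingHom := ((local_hom_TFAE _).out 2 0).1 (by
      show (maximalIdeal S).map g0 ≤ maximalIdeal T
      rw [← Hensel.henselization_map_maximalIdeal (R := A) (S := S), Ideal.map_map, hg0]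
      exact ((local_hom_TFAE (algebraMap A T)).out 0 2).1 ‹IsLocalHom (algebraMap A T)›)
    rw [← card_henselization (A := A) (S := S), ← card_henselization (A := C) (S := T)]
    exact card_hens_le g fun z hz => IsUnit.of_map g.toRingHom z hz
  · obtain ⟨S, _, _, _, _, hS⟩ := Hensel.exists_isStrictHenselization A
    obtain ⟨T, _, _, _, _, hT⟩ := Hensel.exists_isStrictHenselization C
    haveI : Module.Flat C T := Hensel.strictHenselization_flat
    letI : Algebra A T := ((algebraMap C T).comp (algebraMap A C)).toAlgebra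
    haveI : IsScalarTower A C T := IsScalarTower.of_algebraMap_eq' rfl
    haveI : Module.Flat A T := Module.Flat.trans A C T
    haveI : HenselianLocalRing T := hT.henselian
    haveI : IsLocalHom (algebraMap A T) := RingHom.isLocalHom_comp _ _
    haveI := hS.isSepClosure
    haveI := hT.isSepClosure
    haveI : IsSepClosed (ResidueField T) := IsSepClosure.sep_closed (ResidueField C)
    haveI : Algebra.IsSeparable (ResidueField A) (ResidueField S) := IsSepClosure.separable
    let τ : ResidueField S →ₐ[ResidueField A] ResidueField T := IsSepClosed.lift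
    obtain ⟨g0, ⟨hg0, hgr⟩, -⟩ := hS.universal T (algebraMap A T) τ.toRingHom (RingHom.ext fun x => τ.commutes x)
    let g : S →ₐ[A] T := { g0 with commutes' := RingHom.congr_fun hg0 }
    haveI : IsLocalHom g.toRingHom := ((local_hom_TFAE _).out 2 0).1 (by
      show (maximalIdeal S).map g0 ≤ maximalIdeal T
      rw [← Hensel.strictHenselization_map_maximalIdeal (R := A) (S := S), Ideal.map_map, hg0]
      exact ((local_hom_TFAE (algebraMap A T)).out 0 2).1 ‹IsLocalHom (algebraMap A T)›)
    obtain ⟨e, -⟩ := Hensel.exists_algEquiv_hens_strict (R := A) (S := S)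
    rw [← card_strictHenselization (A := A) (S := S), ← card_strictHenselization (A := C) (S := T)]
    refine le_trans (le_of_eq (ENat.card_congr ?_)) (card_hens_le (g.comp e.toAlgHom) (hens_iso_local e g))
    exact
      { toFun := fun q => ⟨_, comap_mem_minimalPrimes_of_ringEquiv e.toRingEquiv q.2⟩
        invFun := fun q => ⟨_, comap_mem_minimalPrimes_of_ringEquiv e.symm.toRingEquiv q.2⟩
        left_inv := fun q => Subtype.ext (by ext z; simp)
        right_inv := fun q => Subtype.ext (by ext z; simp) }

end Completion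

end Groth.Agent.BranchCount
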