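import Groth.Agent.BranchCount.Fibre

/-!
# Geometric branches along flat local maps
-/

set_option autoImplicit false
universe u

open CategoryTheory AlgebraicGeometry

namespace Groth.Agent.BranchCount

theorem one_le_numGeomBranches (A : Type u) [CommRing A] [IsLocalRing A] : 1 ≤ Brnch.numGeomBranches A := by
  obtain ⟨S, _, _, _, _, hS⟩ := Hensel.exists_isStrictHenselization A
  rw [← card_strictHenselization (A := A) (S := S), ENat.one_le_iff_ne_zero, ne_eq,
    ENat.card_eq_zero_iff_empty, not_isEmpty_iff]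
  obtain ⟨p, hp, -⟩ := Ideal.exists_minimalPrimes_le (I := (⊥ : Ideal S)) (J := IsLocalRing.maximalIdeal S) bot_le
  exact ⟨⟨p, hp⟩⟩

theorem numGeomBranchesAt_le_of_flat_stalkMap {X Y : Scheme.{u}} (f : X ⟶ Y) (x : X)
    (hf : (f.stalkMap x).hom.Flat) :
    Brnch.numGeomBranchesAt Y (f.base x) ≤ Brnch.numGeomBranchesAt X x := by
  letI : Algebra (Y.presheaf.stalk (f.base x)) (X.presheaf.stalk x) := (f.stalkMap x).hom.toAlgebra
  haveI : Module.Flat (Y.presheaf.stalk (f.base x)) (X.presheaf.stalk x) := hf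
  haveI : IsLocalHom (algebraMap (Y.presheaf.stalk (f.base x)) (X.presheaf.stalk x)) :=
    inferInstanceAs (IsLocalHom (f.stalkMap x).hom)
  exact numGeomBranches_le_of_flat.1

theorem isGeomUnibranch_of_flat_stalkMap {X Y : Scheme.{u}} (f : X ⟶ Y) (x : X)
    (hf : (f.stalkMap x).hom.Flat) (hX : CAlg2.IsGeomUnibranch (X.presheaf.stalk x)) :
    CAlg2.IsGeomUnibranch (Y.presheaf.stalk (f.base x)) := by
  rw [← numGeomBranches_eq_one_iff] at hX ⊢
  exact le_antisymm ((numGeomBranchesAt_le_of_flat_stalkMap f x hf).trans hX.le) (one_le_numGeomBranches _)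

end Groth.Agent.BranchCount
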