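import Groth.Agent.BranchCount.Apps
import Groth.Agent.Branch.EtaleNbhds

/-!
# Branches and components of etale neighbourhoods
-/

set_option autoImplicit false
universe u

open CategoryTheory AlgebraicGeometry IsLocalRing

namespace Groth.Agent.BranchCount

open Groth.Agent.Hensel Groth.Agent.Branch

noncomputable def minimalPrimesEquiv {R S : Type u} [CommRing R] [CommRing S] (e : R ≃+* S) :
    minimalPrimes R ≃ minimalPrimes S where
  toFun q := ⟨_, comap_mem_minimalPrimes_of_ringEquiv e.symm q.2⟩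
  invFun q := ⟨_, comap_mem_minimalPrimes_of_ringEquiv e q.2⟩
  left_inv q := Subtype.ext (Ideal.ext fun z => Iff.of_eq (congrArg (· ∈ q.1) (e.symm_apply_apply z)))
  right_inv q := Subtype.ext (Ideal.ext fun z => Iff.of_eq (congrArg (· ∈ q.1) (e.apply_symm_apply z)))

theorem card_components {U : Scheme.{u}} (v : U) :
    {Z : Set ↑U | Z ∈ irreducibleComponents ↑U ∧ v ∈ Z}.encard = ENat.card (minimalPrimes (U.presheaf.stalk v)) := by
  rw [← ENat.card_coe_set_eq]
  symm
  have hrange : ∀ z, z ∈ Set.range (U.fromSpecStalk v) ↔ z ⤳ v := fun z => by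
    rw [Scheme.range_fromSpecStalk]; rfl
  let F : minimalPrimes (U.presheaf.stalk v) → {Z : Set ↑U | Z ∈ irreducibleComponents ↑U ∧ v ∈ Z} := fun p =>
    ⟨closure {U.fromSpecStalk v ⟨p.1, p.2.1.1⟩}, by
      have hsp : U.fromSpecStalk v ⟨p.1, p.2.1.1⟩ ⤳ v := (hrange _).1 ⟨_, rfl⟩
      refine ⟨⟨isIrreducible_singleton.closure, fun T hT hle => ?_⟩, hsp.mem_closure⟩
      let ζ := hT.closure.genericPoint
      have hζ := hT.closure.isGenericPoint_genericPoint isClosed_closure
      have h1 : ζ ⤳ U.fromSpecStalk v ⟨p.1, p.2.1.1⟩ := hζ.specializes (subset_closure (hle (subset_closure rfl)))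
      obtain ⟨q, hq⟩ := (hrange ζ).2 (h1.trans hsp)
      have h2 : q ⤳ ⟨p.1, p.2.1.1⟩ := by
        rw [← (U.fromSpecStalk v).isEmbedding.isInducing.specializes_iff, hq]
        exact h1
      have h3 : q.asIdeal ≤ p.1 := (PrimeSpectrum.le_iff_specializes q ⟨p.1, p.2.1.1⟩).2 h2
      have h4 : q = ⟨p.1, p.2.1.1⟩ := PrimeSpectrum.ext (le_antisymm h3 (p.2.2 ⟨q.2, bot_le⟩ h3))
      rw [← h4, hq, hζ.def]
      exact subset_closure⟩
  refine ENat.card_congr (Equiv.ofBijective F ⟨fun p p' h => ?_, fun Z => ?_⟩)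
  · have h' : closure ({U.fromSpecStalk v ⟨p.1, p.2.1.1⟩} : Set U) = closure {U.fromSpecStalk v ⟨p'.1, p'.2.1.1⟩} :=
      congrArg Subtype.val h
    have h1 : U.fromSpecStalk v ⟨p.1, p.2.1.1⟩ = U.fromSpecStalk v ⟨p'.1, p'.2.1.1⟩ :=
      ((specializes_iff_closure_subset.2 h'.ge).antisymm (specializes_iff_closure_subset.2 h'.le)).eq
    exact Subtype.ext (congrArg PrimeSpectrum.asIdeal ((U.fromSpecStalk v).isEmbedding.injective h1))
  · obtain ⟨Z, hZ, hvZ⟩ := Z
    have hζ := hZ.1.isGenericPoint_genericPoint (isClosed_of_mem_irreducibleComponents Z hZ)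
    obtain ⟨q, hq⟩ := (hrange _).2 (hζ.specializes hvZ)
    have hqmin : q.asIdeal ∈ minimalPrimes (U.presheaf.stalk v) := by
      refine ⟨⟨q.2, bot_le⟩, fun J hJ hle => ?_⟩
      let j : PrimeSpectrum (U.presheaf.stalk v) := ⟨J, hJ.1⟩
      have h1 : U.fromSpecStalk v j ⤳ hZ.1.genericPoint :=
        hq ▸ (((PrimeSpectrum.le_iff_specializes j q).1 hle).map (U.fromSpecStalk v).continuous)
      have h2 : Z ⊆ closure {U.fromSpecStalk v j} := hζ.def ▸ specializes_iff_closure_subset.1 h1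
      have h3 : U.fromSpecStalk v j ∈ Z := hZ.2 isIrreducible_singleton.closure h2 (subset_closure rfl)
      have h4 : q ⤳ j := by
        rw [← (U.fromSpecStalk v).isEmbedding.isInducing.specializes_iff, hq]
        exact hζ.specializes h3
      exact (PrimeSpectrum.le_iff_specializes q j).2 h4
    refine ⟨⟨q.asIdeal, hqmin⟩, Subtype.ext ?_⟩
    show closure {U.fromSpecStalk v q} = Z
    rw [hq, hζ.def]

theorem card_stalk_le {X U : Scheme.{u}} (g : U ⟶ X) [Etale g] (v : U) {V : X.Opens} (hV : IsAffineOpen V)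
    (hxV : g v ∈ V) (K : Type u) [Field K] (j : U.residueField v →+* K) :
    ∀ [Algebra Γ(X, V) K],
      (∀ r, algebraMap Γ(X, V) K r = j (g.residueFieldMap v (X.residue (g v) (X.presheaf.germ V (g v) hxV r)))) →
      ENat.card (minimalPrimes (U.presheaf.stalk v)) ≤ ENat.card (minimalPrimes (Hens Γ(X, V) K)) := by
  intro _ hj
  obtain ⟨_, ⟨W, hW, rfl⟩, hvW, hWV⟩ :=
    U.isBasis_affineOpens.exists_subset_of_mem_open hxV (g ⁻¹ᵁ V).isOpen
  letI := (g.appLE V W hWV).hom.toAlgebra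
  haveI : Algebra.Etale Γ(X, V) Γ(U, W) :=
    RingHom.etale_algebraMap.1 (HasRingHomProperty.appLE (P := @Etale) g inferInstance ⟨V, hV⟩ ⟨W, hW⟩ hWV)
  let σ : Γ(U, W) →ₐ[Γ(X, V)] K :=
    { (j.comp ((U.residue v).hom.comp (U.presheaf.germ W v hvW).hom)) with
      commutes' := fun r => by
        show j (U.residue v (U.presheaf.germ W v hvW (g.appLE V W hWV r))) =
          algebraMap Γ(X, V) K r
        rw [hj]
        congr 1
        show _ = U.residue v (g.stalkMap v (X.presheaf.germ V (g v) hxV r))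
        rw [Scheme.Hom.germ_stalkMap_apply]
        congr 1
        rw [Scheme.Hom.appLE, CommRingCat.comp_apply, TopCat.Presheaf.germ_res_apply] }
  let ee := Nbhd.equiv Γ(U, W) σ
  let q := (hW.primeIdealOf ⟨v, hvW⟩).asIdeal
  letI := TopCat.Presheaf.algebra_section_stalk U.presheaf (⟨v, hvW⟩ : ↥W)
  haveI := hW.isLocalization_stalk ⟨v, hvW⟩
  have hσker : ∀ z, σ z = 0 ↔ z ∈ q := fun z => by
    show j (residue (U.presheaf.stalk v) (algebraMap Γ(U, W) (U.presheaf.stalk v) z)) = 0 ↔ _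
    refine (map_eq_zero_iff _ j.injective).trans ((residue_eq_zero_iff _).trans ?_)
    exact IsLocalization.AtPrime.to_map_mem_maximal_iff (U.presheaf.stalk v) q z
  have hmap : (RingHom.ker (Nbhd.mk' Γ(U, W) σ).point.toRingHom).primeCompl.map ee.toRingEquiv.toMonoidHom = q.primeCompl := by
    ext z
    constructor
    · rintro ⟨y, hy, rfl⟩ hz
      exact hy ((Nbhd.pt_mk' _ σ y).trans ((hσker (ee y)).2 hz))
    · intro hz
      refine ⟨ee.symm z, fun hy => hz ((hσker z).1 ?_), ee.apply_symm_apply z⟩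
      have := (Nbhd.pt_mk' _ σ (ee.symm z)).symm.trans hy
      rwa [AlgEquiv.apply_symm_apply] at this
  rw [← ENat.card_congr (minimalPrimesEquiv (IsLocalization.ringEquivOfRingEquiv
    (Localization.AtPrime (RingHom.ker (Nbhd.mk' Γ(U, W) σ).point.toRingHom)) (U.presheaf.stalk v) ee.toRingEquiv hmap))]
  exact card_stage_le _

theorem card_hens_le_iSup {X : Scheme.{u}} (x : X) {V : X.Opens} (hV : IsAffineOpen V) (hx : x ∈ V) (K : Type u) [Field K]
    [Algebra Γ(X, V) K] (hker : ∀ r, algebraMap Γ(X, V) K r = 0 ↔ r ∈ (hV.primeIdealOf ⟨x, hx⟩).asIdeal)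
    (P : ∀ (U : Scheme.{u}), (U ⟶ X) → U → Prop)
    (hP : ∀ (E : Type u) (_ : CommRing E) (_ : Algebra Γ(X, V) E) (_ : Algebra.Etale Γ(X, V) E) (σ : E →ₐ[Γ(X, V)] K)
      (v : ↥(Spec (CommRingCat.of E))), v.asIdeal = RingHom.ker σ.toRingHom →
      (Spec.map (CommRingCat.ofHom (algebraMap Γ(X, V) E)) ≫ hV.fromSpec) v = x →
      P _ (Spec.map (CommRingCat.ofHom (algebraMap Γ(X, V) E)) ≫ hV.fromSpec) v) :
    ENat.card (minimalPrimes (Hens Γ(X, V) K)) ≤ ⨆ (U : Scheme.{u}) (g : U ⟶ X) (u : U) (_ : P U g u),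
      {Z : Set ↑U | Z ∈ irreducibleComponents ↑U ∧ u ∈ Z}.encard := by
  refine ENat.forall_natCast_le_iff_le.1 fun n hn => ?_
  obtain ⟨N, hN⟩ := exists_stage_ge n hn
  let v : ↥(Spec (CommRingCat.of N.carrier)) := ⟨RingHom.ker N.point.toRingHom, inferInstance⟩
  have hv : Spec.map (CommRingCat.ofHom (algebraMap Γ(X, V) N.carrier)) v = hV.primeIdealOf ⟨x, hx⟩ := by
    refine PrimeSpectrum.ext (Ideal.ext fun r => ?_)
    show N.point (algebraMap Γ(X, V) N.carrier r) = 0 ↔ _
    rw [AlgHom.commutes]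
    exact hker r
  refine le_trans hN ?_
  refine le_iSup_of_le (Spec (CommRingCat.of N.carrier)) (le_iSup_of_le
    (Spec.map (CommRingCat.ofHom (algebraMap Γ(X, V) N.carrier)) ≫ hV.fromSpec) (le_iSup_of_le v (le_iSup_of_le
      (hP N.carrier inferInstance inferInstance inferInstance N.point v rfl
        (by rw [Scheme.Hom.comp_apply, hv, IsAffineOpen.fromSpec_primeIdealOf])) ?_)))
  rw [card_components, ENat.card_congr (minimalPrimesEquiv (Spec.stalkIso _ v).commRingCatIsoToRingEquiv)]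

theorem numGeomBranchesAt_eq (X : Scheme.{u}) (x : X) :
    Brnch.numGeomBranchesAt X x = ⨆ (U : Scheme.{u}) (g : U ⟶ X) (u : U) (_ : Etale g ∧ g u = x),
      {Z : Set ↑U | Z ∈ irreducibleComponents ↑U ∧ u ∈ Z}.encard := by
  obtain ⟨_, ⟨V, hV, rfl⟩, hxV, -⟩ :=
    X.isBasis_affineOpens.exists_subset_of_mem_open (Set.mem_univ x) isOpen_univ
  let A := X.presheaf.stalk x
  let K := SeparableClosure (ResidueField A)
  letI : Algebra A K := ((algebraMap (ResidueField A) K).comp (residue A)).toAlgebra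
  haveI : IsScalarTower A (ResidueField A) K := .of_algebraMap_eq' rfl
  letI := TopCat.Presheaf.algebra_section_stalk X.presheaf (⟨x, hxV⟩ : ↥V)
  haveI := hV.isLocalization_stalk ⟨x, hxV⟩
  letI : Algebra Γ(X, V) K := ((algebraMap A K).comp (algebraMap Γ(X, V) A)).toAlgebra
  haveI : IsScalarTower Γ(X, V) A K := .of_algebraMap_eq' rfl
  have hker : ∀ r, algebraMap Γ(X, V) K r = 0 ↔ r ∈ (hV.primeIdealOf ⟨x, hxV⟩).asIdeal := fun r => by
    rw [IsScalarTower.algebraMap_apply Γ(X, V) A K, IsScalarTower.algebraMap_apply A (ResidueField A) K,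
      map_eq_zero, IsLocalRing.ResidueField.algebraMap_eq, residue_eq_zero_iff]
    exact IsLocalization.AtPrime.to_map_mem_maximal_iff A _ r
  obtain ⟨e⟩ := nonempty_hens_ringEquiv (A := A) (K := K) (hV.primeIdealOf ⟨x, hxV⟩).asIdeal
  haveI := isLocalHom_algebraMap_hens (R := A) (K := K)
  haveI := isStrictHenselization_hens (R := A) (K := K)
  rw [Brnch.numGeomBranchesAt, ← card_strictHenselization (A := A) (S := Hens A K),
    ← ENat.card_congr (minimalPrimesEquiv e)]
  refine le_antisymm (card_hens_le_iSup x hV hxV K hker _ fun E _ _ _ σ v _ hv => ⟨?_, hv⟩) ?_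
  · haveI : Etale (Spec.map (CommRingCat.ofHom (algebraMap Γ(X, V) E))) :=
      (HasRingHomProperty.Spec_iff (P := @Etale)).2 (RingHom.etale_algebraMap.2 ‹_›)
    infer_instance
  · refine iSup_le fun U => iSup_le fun g => iSup_le fun v => iSup_le fun ⟨hg, hv⟩ => ?_
    subst hv
    letI := (g.residueFieldMap v).hom.toAlgebra
    let l : U.residueField v →ₐ[X.residueField (g v)] SeparableClosure (X.residueField (g v)) := IsSepClosed.lift
    rw [card_components]
    exact card_stalk_le g v hV hxV K l.toRingHom fun r => (l.commutes (X.residue (g v) (X.presheaf.germ V (g v) hxV r))).symm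

theorem numBranchesAt_eq (X : Scheme.{u}) (x : X) :
    Brnch.numBranchesAt X x = ⨆ (U : Scheme.{u}) (g : U ⟶ X) (u : U) (_ : Hens2.IsEtaleNbhd g u x),
      {Z : Set ↑U | Z ∈ irreducibleComponents ↑U ∧ u ∈ Z}.encard := by
  obtain ⟨_, ⟨V, hV, rfl⟩, hxV, -⟩ :=
    X.isBasis_affineOpens.exists_subset_of_mem_open (Set.mem_univ x) isOpen_univ
  let A := X.presheaf.stalk x
  let K := ResidueField A
  letI := TopCat.Presheaf.algebra_section_stalk X.presheaf (⟨x, hxV⟩ : ↥V)
  haveI := hV.isLocalization_stalk ⟨x, hxV⟩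
  letI : Algebra Γ(X, V) K := ((residue A).comp (algebraMap Γ(X, V) A)).toAlgebra
  haveI : IsScalarTower Γ(X, V) A K := .of_algebraMap_eq' rfl
  have hker : ∀ r, algebraMap Γ(X, V) K r = 0 ↔ r ∈ (hV.primeIdealOf ⟨x, hxV⟩).asIdeal := fun r => by
    show residue A (algebraMap Γ(X, V) A r) = 0 ↔ _
    rw [residue_eq_zero_iff]
    exact IsLocalization.AtPrime.to_map_mem_maximal_iff A _ r
  obtain ⟨e⟩ := nonempty_hens_ringEquiv (A := A) (K := K) (hV.primeIdealOf ⟨x, hxV⟩).asIdeal
  rw [Brnch.numBranchesAt, ← card_henselization (A := A) (S := Hens A K), ← ENat.card_congr (minimalPrimesEquiv e)]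
  refine le_antisymm (card_hens_le_iSup x hV hxV K hker (fun U g u => Hens2.IsEtaleNbhd g u x)
    fun E _ _ _ σ v hvσ hv => ⟨?_, hv, ?_⟩) ?_
  · haveI : Etale (Spec.map (CommRingCat.ofHom (algebraMap Γ(X, V) E))) :=
      (HasRingHomProperty.Spec_iff (P := @Etale)).2 (RingHom.etale_algebraMap.2 ‹_›)
    infer_instance
  · refine ⟨RingHom.injective _, residueFieldMap_surjective_of _ v ?_⟩
    rw [Scheme.Hom.stalkMap_comp]
    refine (residue_surjective_respectsIso.cancel_left_isIso (hV.fromSpec.stalkMap (Spec.map (CommRingCat.ofHom (algebraMap Γ(X, V) E)) v)) ((Spec.map (CommRingCat.ofHom (algebraMap Γ(X, V) E))).stalkMap v)).2 ?_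
    refine (residue_surjective_respectsIso.arrow_mk_iso_iff (Scheme.arrowStalkMapSpecIso _ v)).2
      (localRingHom_residue_surjective (algebraMap Γ(X, V) E) v.asIdeal fun c t ht => ?_)
    have hσ : ∀ y, σ y = 0 ↔ y ∈ v.asIdeal := fun y => by rw [hvσ]; exact Iff.rfl
    obtain ⟨a, ha⟩ := residue_surjective (σ c / σ t)
    obtain ⟨r, ⟨s, hs⟩, rfl⟩ := IsLocalization.exists_mk'_eq (hV.primeIdealOf ⟨x, hxV⟩).asIdeal.primeCompl a
    refine ⟨r, s, fun hy' => hs ((hker s).1 (by rw [← σ.commutes]; exact (hσ _).2 hy')), (hσ _).1 ?_⟩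
    rw [map_sub, map_mul, map_mul, sub_eq_zero, AlgHom.commutes, AlgHom.commutes]
    have h3 : residue A (IsLocalization.mk' A r ⟨s, hs⟩) * algebraMap Γ(X, V) K s = algebraMap Γ(X, V) K r := by
      show _ * residue A (algebraMap Γ(X, V) A s) = residue A (algebraMap Γ(X, V) A r)
      rw [← map_mul, IsLocalization.mk'_spec A r ⟨s, hs⟩]
    rw [ha, div_mul_eq_mul_div, div_eq_iff (fun h0 => ht ((hσ t).1 h0))] at h3
    exact h3
  · refine iSup_le fun U => iSup_le fun g => iSup_le fun v => iSup_le fun hgv => ?_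
    obtain ⟨hg, hv, hres⟩ := hgv
    subst hv
    let j := RingEquiv.ofBijective (g.residueFieldMap v).hom hres
    rw [card_components]
    exact card_stalk_le g v hV hxV K j.symm.toRingHom fun r => (j.symm_apply_apply (X.residue (g v) (X.presheaf.germ V (g v) hxV r))).symm

end Groth.Agent.BranchCount
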