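import Groth.Agent.S10420
import Groth.Agent.Hensel.EtaleLocalTransfer
import Groth.Agent.BranchCount.Scheme
import Groth.Agent.BranchCount.Descent

/-!
# Branches on elementary etale neighbourhoods of algebraic spaces
-/

set_option autoImplicit false
set_option linter.style.haveILetI false
set_option backward.isDefEq.respectTransparency false
universe u

open CategoryTheory CategoryTheory.Limits AlgebraicGeometry

namespace Groth.Agent.BranchCount

open Groth.Agent.AlgSpc Groth.Agent.S10420 _root_.AlgSp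

variable {S : Scheme.{u}} (X : AlgSp.Space S) {x : Points X.obj}

/-- A morphism of elementary etale neighbourhoods is etale with trivial residue extension. -/
theorem elem_morphism {U U' : Over S} {a : (yon S).obj U ⟶ X.obj} {a' : (yon S).obj U' ⟶ X.obj} (g : U' ⟶ U)
    {u' : ↥U'.left} (hg : (yon S).map g ≫ a = a') (ha : IsElemEtaleNbhd a (g.left u') x)
    (ha' : IsElemEtaleNbhd a' u' x) :
    Etale g.left ∧ Function.Bijective (g.left.residueFieldMap u').hom := by
  have het : Etale g.left := by
    obtain ⟨R, fst, snd, sq⟩ := exists_sq ha.etale.1 a'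
    haveI : Etale snd.left := ha.etale.2 _ _ _ sq
    haveI : Etale (pre fst).left := sq_etale sq ha'.etale
    let Γ : U' ⟶ R := pre (sq.lift ((yon S).map g) ((yon S).map (𝟙 U')) (by simp [hg]))
    have hΓ₂ : Γ ≫ snd = 𝟙 _ := (yon S).map_injective (by simp [Γ])
    have hΓ₁ : Γ ≫ pre fst = g := (yon S).map_injective (by simp [Γ])
    haveI : Etale Γ.left := by
      haveI : Etale (Γ.left ≫ snd.left) := by rw [← Over.comp_left, hΓ₂, Over.id_left]; infer_instance
      exact Etale.of_comp Γ.left snd.left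
    rw [← hΓ₁, Over.comp_left]
    infer_instance
  refine ⟨het, ?_⟩
  obtain ⟨c, hc⟩ := exists_res_map X.property ha ha'
  obtain ⟨d, hd⟩ := exists_desc' (resι u' ≫ g) (v := g.left u') fun t => by
    rw [Over.comp_left, Scheme.Hom.comp_apply]; exact congrArg g.left (resι_apply u' t)
  have hm := ha.mono
  rw [toHom_ofPt] at hm
  have hm' := ha'.mono
  rw [toHom_ofPt] at hm'
  have hd' : (yon S).map (resι u') ≫ a' = (yon S).map d ≫ (yon S).map (resι (g.left u')) ≫ a := by
    rw [← Functor.map_comp_assoc, hd, Functor.map_comp, Category.assoc, hg]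
  have h1 : c ≫ d = 𝟙 _ := (yon S).map_injective (hm.right_cancellation _ _ (by
    rw [Functor.map_comp, Category.assoc, ← hd', ← Functor.map_comp_assoc, hc, CategoryTheory.Functor.map_id,
      Category.id_comp]))
  have h2 : d ≫ c = 𝟙 _ := (yon S).map_injective (hm'.right_cancellation _ _ (by
    have hc' : (yon S).map c ≫ (yon S).map (resι u') ≫ a' = (yon S).map (resι (g.left u')) ≫ a := by
      rw [← Functor.map_comp_assoc, hc]
    rw [Functor.map_comp, Category.assoc, hc', ← hd', CategoryTheory.Functor.map_id, Category.id_comp]))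
  have hdl : d.left = Spec.map (g.left.residueFieldMap u') := by
    haveI : Mono (U.left.fromSpecResidueField (g.left u')) := inferInstance
    rw [← cancel_mono (U.left.fromSpecResidueField (g.left u')), Scheme.Hom.SpecMap_residueFieldMap_fromSpecResidueField]
    exact congrArg CommaMorphism.left hd
  haveI : IsIso d := ⟨c, h2, h1⟩
  haveI : IsIso (Spec.map (g.left.residueFieldMap u')) := hdl ▸ inferInstanceAs (IsIso ((Over.forget S).map d))
  haveI : IsIso (g.left.residueFieldMap u') := by
    haveI : IsIso (Scheme.Spec.map (g.left.residueFieldMap u').op) := ‹IsIso (Spec.map (g.left.residueFieldMap u'))›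
    have := isIso_of_reflects_iso (g.left.residueFieldMap u').op Scheme.Spec
    exact isIso_of_op _
  exact ConcreteCategory.bijective_of_isIso (g.left.residueFieldMap u')

theorem numBranchesAt_eq_of_morphism {U U' : Over S} {a : (yon S).obj U ⟶ X.obj} {a' : (yon S).obj U' ⟶ X.obj}
    (g : U' ⟶ U) {u' : ↥U'.left} (hg : (yon S).map g ≫ a = a') (ha : IsElemEtaleNbhd a (g.left u') x)
    (ha' : IsElemEtaleNbhd a' u' x) :
    Brnch.numBranchesAt U.left (g.left u') = Brnch.numBranchesAt U'.left u' := by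
  obtain ⟨het, hbij⟩ := elem_morphism X g hg ha ha'
  let A' := U'.left.presheaf.stalk u'
  let H := Hensel.Hens A' (IsLocalRing.ResidueField A')
  letI : Algebra (U.left.presheaf.stalk (g.left u')) H := ((algebraMap A' H).comp (g.left.stalkMap u').hom).toAlgebra
  obtain ⟨hl, hh⟩ := Hensel.isHenselization_stalkMap g.left u' hbij H
  haveI := hl; haveI := hh
  rw [Brnch.numBranchesAt, Brnch.numBranchesAt, ← card_henselization (A := U.left.presheaf.stalk (g.left u')) (S := H),
    ← card_henselization (A := A') (S := H)]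

theorem numBranchesAt_eq_of_elem (hX : IsDecent X.obj) {U₁ U₂ : Over S} {a₁ : (yon S).obj U₁ ⟶ X.obj}
    {a₂ : (yon S).obj U₂ ⟶ X.obj} {u₁ : ↥U₁.left} {u₂ : ↥U₂.left}
    (h₁ : IsElemEtaleNbhd a₁ u₁ x) (h₂ : IsElemEtaleNbhd a₂ u₂ x) :
    Brnch.numBranchesAt U₁.left u₁ = Brnch.numBranchesAt U₂.left u₂ := by
  obtain ⟨U, a, v, g₁, g₂, hv, e₁, e₂, rfl, rfl⟩ := (S10420.result X hX x).1 U₁ U₂ a₁ a₂ u₁ u₂ h₁ h₂
  rw [numBranchesAt_eq_of_morphism X g₁ e₁ h₁ hv, numBranchesAt_eq_of_morphism X g₂ e₂ h₂ hv]

theorem minimalPrimes_le_numBranchesAt {Y : Scheme.{u}} (y : Y) :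
    (minimalPrimes (Y.presheaf.stalk y)).encard ≤ Brnch.numBranchesAt Y y := by
  rw [← ENat.card_coe_set_eq, ← card_components, numBranchesAt_eq]
  refine le_iSup_of_le Y (le_iSup_of_le (𝟙 Y) (le_iSup_of_le y (le_iSup_of_le ⟨inferInstance, by simp, ?_⟩ le_rfl)))
  exact ConcreteCategory.bijective_of_isIso _

/-- The branch number is reached on elementary etale neighbourhoods. -/
theorem numBranchesAt_le_of_forall {U₀ : Over S} {a₀ : (yon S).obj U₀ ⟶ X.obj} {u₀ : ↥U₀.left}
    (h₀ : IsElemEtaleNbhd a₀ u₀ x) (m : ℕ∞)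
    (h : ∀ (U : Over S) (a : (yon S).obj U ⟶ X.obj) (u : ↥U.left), IsElemEtaleNbhd a u x →
      (minimalPrimes ↥(U.left.presheaf.stalk u)).encard ≤ m) :
    Brnch.numBranchesAt U₀.left u₀ ≤ m := by
  rw [numBranchesAt_eq]
  refine iSup_le fun W => iSup_le fun g => iSup_le fun w => iSup_le fun hgw => ?_
  obtain ⟨hg, rfl, hres⟩ := hgw
  rw [card_components, ENat.card_coe_set_eq]
  let W' : Over S := Over.mk (g ≫ U₀.hom)
  let g' : W' ⟶ U₀ := Over.homMk g rfl
  haveI : IsIso (g.residueFieldMap w) := (ConcreteCategory.isIso_iff_bijective _).2 hres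
  let l : resObj (g w) ⟶ W' := Over.homMk (Spec.map (inv (g.residueFieldMap w)) ≫ W.fromSpecResidueField w) (by
    show (Spec.map (inv (g.residueFieldMap w)) ≫ W.fromSpecResidueField w) ≫ g ≫ U₀.hom = U₀.left.fromSpecResidueField (g w) ≫ U₀.hom
    rw [Category.assoc, ← reassoc_of% (g.SpecMap_residueFieldMap_fromSpecResidueField w), ← Category.assoc,
      ← Spec.map_comp, IsIso.hom_inv_id, Spec.map_id, Category.id_comp])
  have hl : l ≫ g' = resι (g w) := Over.OverMorphism.ext (by
    show (Spec.map (inv (g.residueFieldMap w)) ≫ W.fromSpecResidueField w) ≫ g = _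
    rw [Category.assoc, ← g.SpecMap_residueFieldMap_fromSpecResidueField w, ← Category.assoc, ← Spec.map_comp,
      IsIso.hom_inv_id, Spec.map_id, Category.id_comp]
    rfl)
  obtain ⟨w', hw', -, hw⟩ := elem_of_lift h₀ g'
    (repWith_comp ((repWith_yon_map_iff (P := @Etale) _).2 hg) h₀.etale) l hl
  have hwe : w' = w := by
    rw [hw]
    show W.fromSpecResidueField w _ = w
    exact W.fromSpecResidueField_apply w _
  exact h W' _ w (hwe ▸ hw')

end Groth.Agent.BranchCount
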