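import Groth.Agent.Branch.Main
import Groth.Prelude.Def_Brnch
import Mathlib.RingTheory.Unramified.Finite

/-!
# Counting branches with (strict) henselizations
-/

set_option autoImplicit false
universe u

open TensorProduct IsLocalRing

namespace Groth.Agent.BranchCount

section General

variable {A S : Type u} [CommRing A] [CommRing S] [Algebra A S] [Module.FaithfullyFlat A S]

theorem exists_minimal_over (p : Ideal A) (hp : p ∈ minimalPrimes A) :
    ∃ q ∈ minimalPrimes S, q.comap (algebraMap A S) = p := by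
  obtain ⟨⟨P, hP⟩, hPp⟩ := PrimeSpectrum.comap_surjective_of_faithfullyFlat (A := A) (B := S) ⟨p, hp.1.1⟩
  obtain ⟨q, hq, hqP⟩ := Ideal.exists_minimalPrimes_le (I := (⊥ : Ideal S)) (J := P) bot_le
  have h1 : q.comap (algebraMap A S) ≤ p := by
    rw [← show P.comap (algebraMap A S) = p from congrArg PrimeSpectrum.asIdeal hPp]
    exact Ideal.comap_mono hqP
  exact ⟨q, hq, le_antisymm h1 (hp.2 ⟨hq.1.1.comap _, bot_le⟩ h1)⟩

theorem card_eq_top_of_infinite (h : ¬ (minimalPrimes A).Finite) : ENat.card (minimalPrimes S) = ⊤ := by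
  refine ENat.card_eq_top.2 ((Set.infinite_coe_iff.2 ?_))
  intro hfin
  apply h
  refine (hfin.image fun q : Ideal S => q.comap (algebraMap A S)).subset fun p hp => ?_
  obtain ⟨q, hq, hqp⟩ := exists_minimal_over (S := S) p hp
  exact ⟨q, hq, hqp⟩

variable [IsLocalRing A] [IsLocalRing S] [HenselianLocalRing S]

theorem card_minimalPrimes_eq_card_maximal [Finite (minimalPrimes A)] (hT : Hensel.TrivialFibres A S)
    (hS : Smoothing.IndSmooth A S) :
    ENat.card (minimalPrimes S) = ENat.card (MaximalSpectrum (CAlg2.normRed A ⊗[A] S)) := by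
  have hb := NormSH.bijOn_minimalPrimes (A := A) (Ash := S) hT
  have hmax := NormSH.existsUnique_maximal (A := A) (Ash := S)
  have hmin := NormSH.existsUnique_minimal (A := A) (Ash := S) hT hS
  refine (ENat.card_congr hb.equiv).symm.trans (ENat.card_congr ?_)
  choose m hm hmu using fun q : minimalPrimes (CAlg2.normRed A ⊗[A] S) => hmax q.1 q.2
  refine Equiv.ofBijective (fun q => (⟨m q, (hm q).1⟩ : MaximalSpectrum _)) ⟨fun q q' h => ?_, fun M => ?_⟩
  · obtain ⟨r, -, hru⟩ := hmin (m q) (hm q).1
    have h' : m q = m q' := congrArg MaximalSpectrum.asIdeal h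
    exact Subtype.ext ((hru q.1 ⟨q.2, (hm q).2⟩).trans (hru q'.1 ⟨q'.2, h' ▸ (hm q').2⟩).symm)
  · obtain ⟨q, ⟨hq, hqM⟩, -⟩ := hmin M.asIdeal M.isMaximal
    exact ⟨⟨q, hq⟩, MaximalSpectrum.ext (hmu ⟨q, hq⟩ M.asIdeal ⟨M.isMaximal, hqM⟩).symm⟩

end General

section Residue

variable {A S : Type u} [CommRing A] [IsLocalRing A] [CommRing S] [IsLocalRing S] [Algebra A S]
  [IsLocalHom (algebraMap A S)] [Module.FaithfullyFlat A S]

theorem maximalSpectrum_comap_bijective (hres : ∀ s : S, ∃ a : A, s - algebraMap A S a ∈ maximalIdeal S) :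
    Function.Bijective fun M : MaximalSpectrum (CAlg2.normRed A ⊗[A] S) =>
      (⟨_, (Branch.comap_maximal M.asIdeal (hM := M.isMaximal)).2⟩ : MaximalSpectrum (CAlg2.normRed A)) := by
  constructor
  · intro M M' h
    haveI := M.isMaximal; haveI := M'.isMaximal
    have h' := congrArg MaximalSpectrum.asIdeal h
    let iR : S →+* CAlg2.normRed A ⊗[A] S := Algebra.TensorProduct.includeRight.toRingHom
    let iL : CAlg2.normRed A →+* CAlg2.normRed A ⊗[A] S := Algebra.TensorProduct.includeLeftRingHom
    have key : ∀ z, ∃ c, z - iL c ∈ (maximalIdeal S).map iR := fun z => by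
      induction z using TensorProduct.induction_on with
      | zero => exact ⟨0, by simp⟩
      | tmul y s =>
        obtain ⟨a, ha⟩ := hres s
        refine ⟨a • y, ?_⟩
        have : y ⊗ₜ[A] s - iL (a • y) = iL y * iR (s - algebraMap A S a) := by
          show _ - (a • y) ⊗ₜ[A] (1 : S) = (y ⊗ₜ[A] (1 : S)) * ((1 : CAlg2.normRed A) ⊗ₜ[A] (s - algebraMap A S a))
          rw [Algebra.TensorProduct.tmul_mul_tmul, mul_one, one_mul, tmul_sub, Algebra.algebraMap_eq_smul_one, smul_tmul]
        rw [this]
        exact Ideal.mul_mem_left _ _ (Ideal.mem_map_of_mem _ ha)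
      | add z w hz hw =>
        obtain ⟨c, hc⟩ := hz
        obtain ⟨d, hd⟩ := hw
        refine ⟨c + d, ?_⟩
        have : z + w - iL (c + d) = (z - iL c) + (w - iL d) := by
          rw [map_add]
          exact add_sub_add_comm (α := CAlg2.normRed A ⊗[A] S) z w (iL c) (iL d)
        rw [this]
        exact add_mem hc hd
    refine MaximalSpectrum.ext (Ideal.ext fun z => ?_)
    obtain ⟨c, hc⟩ := key z
    have hJ : ∀ N : Ideal (CAlg2.normRed A ⊗[A] S), N.IsMaximal → (maximalIdeal S).map iR ≤ N := fun N hN =>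
      Ideal.map_le_iff_le_comap.2 (Branch.comap_maximal N (hM := hN)).1.ge
    refine (Branch.mem_iff_of_sub_mem (R := CAlg2.normRed A ⊗[A] S) M.asIdeal (hJ _ M.isMaximal hc)).trans (Iff.trans ?_ (Branch.mem_iff_of_sub_mem (R := CAlg2.normRed A ⊗[A] S) M'.asIdeal (hJ _ M'.isMaximal hc)).symm)
    exact Iff.of_eq (congrArg (c ∈ ·) h')
  · intro m
    haveI := m.isMaximal
    obtain ⟨⟨P, hP⟩, hPm⟩ := PrimeSpectrum.comap_surjective_of_faithfullyFlat
      (A := CAlg2.normRed A) (B := CAlg2.normRed A ⊗[A] S) ⟨m.asIdeal, m.isMaximal.isPrime⟩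
    obtain ⟨M, hM, hle⟩ := Ideal.exists_le_maximal P hP.ne_top
    refine ⟨⟨M, hM⟩, MaximalSpectrum.ext ?_⟩
    have h1 : P.comap (Algebra.TensorProduct.includeLeftRingHom : CAlg2.normRed A →+* CAlg2.normRed A ⊗[A] S) = m.asIdeal :=
      congrArg PrimeSpectrum.asIdeal hPm
    exact (m.isMaximal.eq_of_le ((hM.isPrime.comap _).ne_top) (h1 ▸ Ideal.comap_mono hle)).symm

end Residue

section Field

variable {S W Ω : Type u} [CommRing S] [IsLocalRing S] [CommRing W] [Field Ω]

theorem isAlgebraic_quotient (iR : S →+* W) (hint : iR.IsIntegral) (M : Ideal W) (h : ∀ s ∈ maximalIdeal S, iR s ∈ M) :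
    letI : Algebra (ResidueField S) (W ⧸ M) := (Ideal.Quotient.lift (maximalIdeal S) ((Ideal.Quotient.mk M).comp iR)
      fun s hs => Ideal.Quotient.eq_zero_iff_mem.2 (h s hs) : ResidueField S →+* W ⧸ M).toAlgebra
    Algebra.IsIntegral (ResidueField S) (W ⧸ M) := by
  letI : Algebra (ResidueField S) (W ⧸ M) := (Ideal.Quotient.lift (maximalIdeal S) ((Ideal.Quotient.mk M).comp iR)
      fun s hs => Ideal.Quotient.eq_zero_iff_mem.2 (h s hs) : ResidueField S →+* W ⧸ M).toAlgebra
  refine ⟨fun x => ?_⟩
  obtain ⟨z, rfl⟩ := Ideal.Quotient.mk_surjective x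
  obtain ⟨P, hP, hPz⟩ := hint z
  refine ⟨P.map (residue S), hP.map _, ?_⟩
  rw [Polynomial.eval₂_map]
  have h1 := Polynomial.hom_eval₂ P iR (Ideal.Quotient.mk M) z
  rw [hPz, map_zero] at h1
  exact h1.symm

/-- Two field-valued points with the same kernel, agreeing on a strictly henselian base. -/
theorem ringHom_eq_of_ker_eq [IsSepClosed (ResidueField S)] (ι : ResidueField S →+* Ω) (iR : S →+* W)
    (hint : iR.IsIntegral) (φ φ' : W →+* Ω) (hφ : ∀ s, φ (iR s) = ι (residue S s))
    (hφ' : ∀ s, φ' (iR s) = ι (residue S s)) (hk : RingHom.ker φ = RingHom.ker φ') : φ = φ' := by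
  let M := RingHom.ker φ
  haveI : M.IsPrime := RingHom.ker_isPrime φ
  have hker : ∀ s ∈ maximalIdeal S, iR s ∈ M := fun s hs => by
    show φ (iR s) = 0
    rw [hφ, (residue_eq_zero_iff s).2 hs, map_zero]
  letI : Algebra (ResidueField S) (W ⧸ M) := (Ideal.Quotient.lift (maximalIdeal S) ((Ideal.Quotient.mk M).comp iR)
      fun s hs => Ideal.Quotient.eq_zero_iff_mem.2 (hker s hs) : ResidueField S →+* W ⧸ M).toAlgebra
  haveI := isAlgebraic_quotient iR hint M hker
  refine RingHom.ext fun z => ?_
  obtain ⟨n, c, hc⟩ := IsPurelyInseparable.pow_mem (ResidueField S) (ringExpChar (ResidueField S)) (Ideal.Quotient.mk M z)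
  obtain ⟨s, rfl⟩ := residue_surjective c
  have hmem : z ^ ringExpChar (ResidueField S) ^ n - iR s ∈ M := by
    rw [← Ideal.Quotient.eq, map_pow]
    exact hc.symm
  have e1 := sub_eq_zero.1 ((map_sub φ _ _).symm.trans (RingHom.mem_ker.1 hmem))
  have hmem' : z ^ ringExpChar (ResidueField S) ^ n - iR s ∈ RingHom.ker φ' := hk.le hmem
  have e2 := sub_eq_zero.1 ((map_sub φ' _ _).symm.trans (RingHom.mem_ker.1 hmem'))
  rw [map_pow, hφ] at e1
  rw [map_pow, hφ'] at e2
  haveI : ExpChar Ω (ringExpChar (ResidueField S)) := expChar_of_injective_ringHom ι.injective _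
  refine iterateFrobenius_inj Ω (ringExpChar (ResidueField S)) n ?_
  rw [iterateFrobenius_def, iterateFrobenius_def, e1, e2]

theorem exists_ringHom_of_maximal [IsAlgClosed Ω] (ι : ResidueField S →+* Ω) (iR : S →+* W) (hint : iR.IsIntegral)
    (M : Ideal W) (hM : M.IsMaximal) (hc : M.comap iR = maximalIdeal S) :
    ∃ φ : W →+* Ω, RingHom.ker φ = M ∧ ∀ s, φ (iR s) = ι (residue S s) := by
  have hker : ∀ s ∈ maximalIdeal S, iR s ∈ M := fun s hs => hc.ge hs
  letI : Algebra (ResidueField S) (W ⧸ M) := (Ideal.Quotient.lift (maximalIdeal S) ((Ideal.Quotient.mk M).comp iR)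
      fun s hs => Ideal.Quotient.eq_zero_iff_mem.2 (hker s hs) : ResidueField S →+* W ⧸ M).toAlgebra
  haveI := isAlgebraic_quotient iR hint M hker
  letI := Ideal.Quotient.field M
  haveI : Algebra.IsAlgebraic (ResidueField S) (W ⧸ M) := Algebra.IsIntegral.isAlgebraic
  letI : Algebra (ResidueField S) Ω := ι.toAlgebra
  let e : W ⧸ M →ₐ[ResidueField S] Ω := IsAlgClosed.lift
  exact ⟨e.toRingHom.comp (Ideal.Quotient.mk M),
    by rw [RingHom.ker_comp_of_injective _ e.toRingHom.injective, Ideal.mk_ker],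
    fun s => e.commutes (residue S s)⟩

end Field

section Strict

variable {A S : Type u} [CommRing A] [IsLocalRing A] [CommRing S] [IsLocalRing S] [Algebra A S]
  [IsLocalHom (algebraMap A S)]

/-- The map of `A' ⊗ S` attached to a maximal ideal and an embedding of its residue field. -/
noncomputable def pointMap (ι : ResidueField S →+* AlgebraicClosure (ResidueField A))
    (hι : (ι.comp (residue S)).comp (algebraMap A S) = Brnch.toClosure A)
    (m' : MaximalSpectrum (CAlg2.normRed A)) (σ : Brnch.Emb A m') :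
    CAlg2.normRed A ⊗[A] S →+* AlgebraicClosure (ResidueField A) :=
  letI : Algebra A (AlgebraicClosure (ResidueField A)) := (Brnch.toClosure A).toAlgebra
  (Algebra.TensorProduct.lift
    ({ σ.1.comp (Ideal.Quotient.mk m'.asIdeal) with commutes' := fun a => RingHom.congr_fun σ.2 a } :
      CAlg2.normRed A →ₐ[A] AlgebraicClosure (ResidueField A))
    ({ ι.comp (residue S) with commutes' := fun a => RingHom.congr_fun hι a } :
      S →ₐ[A] AlgebraicClosure (ResidueField A)) fun _ _ => Commute.all _ _).toRingHom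

variable (ι : ResidueField S →+* AlgebraicClosure (ResidueField A))
    (hι : (ι.comp (residue S)).comp (algebraMap A S) = Brnch.toClosure A)

theorem pointMap_tmul (m' : MaximalSpectrum (CAlg2.normRed A)) (σ : Brnch.Emb A m') (y : CAlg2.normRed A) (s : S) :
    pointMap ι hι m' σ (y ⊗ₜ[A] s) = σ.1 (Ideal.Quotient.mk m'.asIdeal y) * ι (residue S s) := by
  simp [pointMap]

theorem isMaximal_ker_pointMap (m' : MaximalSpectrum (CAlg2.normRed A)) (σ : Brnch.Emb A m') :
    (RingHom.ker (pointMap ι hι m' σ)).IsMaximal := by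
  haveI : (RingHom.ker (pointMap ι hι m' σ)).IsPrime := RingHom.ker_isPrime _
  refine Ideal.isMaximal_of_isIntegral_of_isMaximal_comap' (R := S) (S := CAlg2.normRed A ⊗[A] S) (Algebra.TensorProduct.includeRight.toRingHom :
    S →+* CAlg2.normRed A ⊗[A] S) Branch.isIntegral_includeRight _ ?_
  have : (RingHom.ker (pointMap ι hι m' σ)).comap (Algebra.TensorProduct.includeRight.toRingHom :
      S →+* CAlg2.normRed A ⊗[A] S) = maximalIdeal S := by
    ext s
    show pointMap ι hι m' σ ((1 : CAlg2.normRed A) ⊗ₜ[A] s) = 0 ↔ _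
    rw [pointMap_tmul, map_one, map_one, one_mul, map_eq_zero, residue_eq_zero_iff]
  rw [this]
  exact maximalIdeal.isMaximal S

theorem comap_ker_pointMap (m' : MaximalSpectrum (CAlg2.normRed A)) (σ : Brnch.Emb A m') :
    (RingHom.ker (pointMap ι hι m' σ)).comap (Algebra.TensorProduct.includeLeftRingHom :
      CAlg2.normRed A →+* CAlg2.normRed A ⊗[A] S) = m'.asIdeal := by
  haveI := m'.isMaximal
  letI := Ideal.Quotient.field m'.asIdeal
  ext y
  show pointMap ι hι m' σ (y ⊗ₜ[A] (1 : S)) = 0 ↔ _
  rw [pointMap_tmul, map_one, map_one, mul_one, map_eq_zero, Ideal.Quotient.eq_zero_iff_mem]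

theorem pointMap_injective [IsSepClosed (ResidueField S)] :
    Function.Injective fun x : Σ m' : MaximalSpectrum (CAlg2.normRed A), Brnch.Emb A m' =>
      (⟨_, isMaximal_ker_pointMap ι hι x.1 x.2⟩ : MaximalSpectrum (CAlg2.normRed A ⊗[A] S)) := by
  rintro ⟨m, σ⟩ ⟨m', σ'⟩ h
  have hk : RingHom.ker (pointMap ι hι m σ) = RingHom.ker (pointMap ι hι m' σ') := congrArg MaximalSpectrum.asIdeal h
  obtain rfl : m = m' := MaximalSpectrum.ext (by rw [← comap_ker_pointMap ι hι m σ, hk, comap_ker_pointMap ι hι m' σ'])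
  have heq := ringHom_eq_of_ker_eq (W := CAlg2.normRed A ⊗[A] S) ι Algebra.TensorProduct.includeRight.toRingHom
    Branch.isIntegral_includeRight (pointMap ι hι m σ) (pointMap ι hι m σ')
    (fun s => by show pointMap ι hι m σ ((1 : CAlg2.normRed A) ⊗ₜ[A] s) = _; rw [pointMap_tmul, map_one, map_one, one_mul])
    (fun s => by show pointMap ι hι m σ' ((1 : CAlg2.normRed A) ⊗ₜ[A] s) = _; rw [pointMap_tmul, map_one, map_one, one_mul]) hk
  have hσ : σ = σ' := by
    refine Subtype.ext (RingHom.ext fun x => ?_)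
    obtain ⟨y, rfl⟩ := Ideal.Quotient.mk_surjective x
    have h1 := RingHom.congr_fun heq (y ⊗ₜ[A] (1 : S))
    rwa [pointMap_tmul, pointMap_tmul, map_one, map_one, mul_one, mul_one] at h1
  subst hσ
  rfl

theorem pointMap_surjective :
    Function.Surjective fun x : Σ m' : MaximalSpectrum (CAlg2.normRed A), Brnch.Emb A m' =>
      (⟨_, isMaximal_ker_pointMap ι hι x.1 x.2⟩ : MaximalSpectrum (CAlg2.normRed A ⊗[A] S)) := by
  intro M
  let iR : S →+* CAlg2.normRed A ⊗[A] S := Algebra.TensorProduct.includeRight.toRingHom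
  let iL : CAlg2.normRed A →+* CAlg2.normRed A ⊗[A] S := Algebra.TensorProduct.includeLeftRingHom
  obtain ⟨φ, hφk, hφ⟩ := exists_ringHom_of_maximal (W := CAlg2.normRed A ⊗[A] S) ι iR Branch.isIntegral_includeRight
    M.asIdeal M.isMaximal (Branch.comap_maximal M.asIdeal (hM := M.isMaximal)).1
  let m' : MaximalSpectrum (CAlg2.normRed A) := ⟨_, (Branch.comap_maximal M.asIdeal (hM := M.isMaximal)).2⟩
  let σ0 : CAlg2.normRed A ⧸ m'.asIdeal →+* AlgebraicClosure (ResidueField A) :=
    Ideal.Quotient.lift m'.asIdeal (φ.comp iL) fun y (hy : iL y ∈ M.asIdeal) => by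
      rw [← hφk] at hy
      exact hy
  have hcompat : σ0.comp (Brnch.toResidue A m') = Brnch.toClosure A := by
    refine RingHom.ext fun a => ?_
    show φ (iL (algebraMap A (CAlg2.normRed A) a)) = _
    rw [show iL (algebraMap A (CAlg2.normRed A) a) = iR (algebraMap A S a) by
      show algebraMap A (CAlg2.normRed A) a ⊗ₜ[A] (1 : S) = (1 : CAlg2.normRed A) ⊗ₜ[A] algebraMap A S a
      rw [Algebra.algebraMap_eq_smul_one, Algebra.algebraMap_eq_smul_one, smul_tmul], hφ]
    exact RingHom.congr_fun hι a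
  refine ⟨⟨m', σ0, hcompat⟩, MaximalSpectrum.ext ?_⟩
  show RingHom.ker (pointMap ι hι m' ⟨σ0, hcompat⟩) = M.asIdeal
  rw [← hφk]
  congr 1
  refine RingHom.ext fun z => ?_
  induction z using TensorProduct.induction_on with
  | zero => simp only [map_zero]
  | add z w hz hw => simp only [map_add, hz, hw]
  | tmul y s =>
    rw [pointMap_tmul]
    show φ (iL y) * ι (residue S s) = φ (y ⊗ₜ[A] s)
    rw [← hφ, ← map_mul]
    congr 1
    show (y ⊗ₜ[A] (1 : S)) * ((1 : CAlg2.normRed A) ⊗ₜ[A] s) = _
    rw [Algebra.TensorProduct.tmul_mul_tmul, mul_one, one_mul]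

end Strict

section Main

variable {A S : Type u} [CommRing A] [IsLocalRing A] [CommRing S] [IsLocalRing S] [Algebra A S]
  [IsLocalHom (algebraMap A S)]

/-- Minimal primes of the henselization are the branches. -/
theorem card_henselization [Hensel.IsHenselization A S] :
    ENat.card (minimalPrimes S) = Brnch.numBranches A := by
  haveI := Hensel.henselization_faithfullyFlat (R := A) (S := S)
  haveI : HenselianLocalRing S := _root_.Hensel.IsHenselization.henselian (R := A)
  unfold Brnch.numBranches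
  split
  · next h =>
    haveI := h.to_subtype
    obtain ⟨e⟩ := Hensel.exists_algEquiv_hens (R := A) (S := S)
    rw [card_minimalPrimes_eq_card_maximal Hensel.henselization_trivialFibres (NormSH.indSmooth_hens e)]
    exact ENat.card_congr (Equiv.ofBijective _ (maximalSpectrum_comap_bijective Hensel.henselization_residue_surjective))
  · next h => exact card_eq_top_of_infinite h

theorem exists_embedding [Hensel.IsStrictHenselization A S] :
    ∃ ι : ResidueField S →+* AlgebraicClosure (ResidueField A),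
      (ι.comp (residue S)).comp (algebraMap A S) = Brnch.toClosure A := by
  haveI : IsSepClosure (ResidueField A) (ResidueField S) := _root_.Hensel.IsStrictHenselization.isSepClosure
  haveI : Algebra.IsSeparable (ResidueField A) (ResidueField S) := IsSepClosure.separable
  let l : ResidueField S →ₐ[ResidueField A] AlgebraicClosure (ResidueField A) := IsAlgClosed.lift
  exact ⟨l.toRingHom, RingHom.ext fun a => l.commutes (residue A a)⟩

/-- Minimal primes of the strict henselization are the geometric branches. -/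
theorem card_strictHenselization [Hensel.IsStrictHenselization A S] :
    ENat.card (minimalPrimes S) = Brnch.numGeomBranches A := by
  haveI := Hensel.strictHenselization_faithfullyFlat (R := A) (S := S)
  haveI : HenselianLocalRing S := _root_.Hensel.IsStrictHenselization.henselian (R := A)
  haveI : IsSepClosure (ResidueField A) (ResidueField S) := _root_.Hensel.IsStrictHenselization.isSepClosure
  haveI : IsSepClosed (ResidueField S) := IsSepClosure.sep_closed (ResidueField A)
  unfold Brnch.numGeomBranches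
  split
  · next h =>
    haveI := h.to_subtype
    obtain ⟨e, -⟩ := Hensel.exists_algEquiv_hens_strict (R := A) (S := S)
    obtain ⟨ι, hι⟩ := exists_embedding (A := A) (S := S)
    rw [card_minimalPrimes_eq_card_maximal Hensel.strictHenselization_trivialFibres (NormSH.indSmooth_hens e)]
    exact (ENat.card_congr (Equiv.ofBijective _ ⟨pointMap_injective ι hι, pointMap_surjective ι hι⟩)).symm
  · next h => exact card_eq_top_of_infinite h

end Main

end Groth.Agent.BranchCount
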