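import Groth.Agent.BranchCount.Scheme
import Groth.Agent.FlatLocalDepth.FibreStalk

/-!
# Branches of fibres and etale neighbourhoods
-/

set_option autoImplicit false
universe u

open CategoryTheory AlgebraicGeometry IsLocalRing

namespace Groth.Agent.BranchCount

open Groth.Agent.Hensel Groth.Agent.Branch

section Relative

variable {R T : Type u} [CommRing R] [CommRing T] [Algebra R T]

theorem comap_mem_minimalPrimes_map [Module.Flat R T] (J : Ideal R) {P : Ideal T}
    (hP : P ∈ (J.map (algebraMap R T)).minimalPrimes) : P.comap (algebraMap R T) ∈ J.minimalPrimes := by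
  haveI := hP.1.1
  refine ⟨⟨Ideal.IsPrime.comap _, Ideal.map_le_iff_le_comap.1 hP.1.2⟩, fun Q hQ hle => ?_⟩
  haveI := hQ.1
  obtain ⟨P0, hle0, hP0, hover⟩ : ∃ P0 ≤ P, P0.IsPrime ∧ P0.LiesOver Q :=
    Ideal.exists_ideal_le_liesOver_of_le (p := Q) (q := P.under R) P hle
  have h2 := hP.2 ⟨hP0, Ideal.map_le_iff_le_comap.2 (hQ.2.trans hover.over.le)⟩ hle0
  exact (Ideal.comap_mono h2).trans hover.over.ge

theorem exists_mem_minimalPrimes_map [Module.FaithfullyFlat R T] (J : Ideal R) {p : Ideal R}
    (hp : p ∈ J.minimalPrimes) : ∃ P ∈ (J.map (algebraMap R T)).minimalPrimes, P.comap (algebraMap R T) = p := by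
  obtain ⟨⟨Q, hQ⟩, hQp⟩ := PrimeSpectrum.comap_surjective_of_faithfullyFlat (A := R) (B := T) ⟨p, hp.1.1⟩
  have hQp' : Q.comap (algebraMap R T) = p := congrArg PrimeSpectrum.asIdeal hQp
  obtain ⟨P, hP, hle⟩ := Ideal.exists_minimalPrimes_le (I := J.map (algebraMap R T)) (J := Q)
    (Ideal.map_le_iff_le_comap.2 (hQp'.symm ▸ hp.1.2))
  have h1 : P.comap (algebraMap R T) ≤ p := hQp' ▸ Ideal.comap_mono hle
  exact ⟨P, hP, le_antisymm h1 (hp.2 ⟨hP.1.1.comap _, Ideal.map_le_iff_le_comap.1 hP.1.2⟩ h1)⟩

theorem card_quotient (J : Ideal R) : ENat.card (minimalPrimes (R ⧸ J)) = ENat.card J.minimalPrimes :=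
  ENat.card_congr ((Equiv.Set.image (Ideal.comap (Ideal.Quotient.mk J)) (minimalPrimes _)
    (Ideal.comap_injective_of_surjective _ Ideal.Quotient.mk_surjective)).trans
      (Equiv.setCongr Ideal.minimalPrimes_eq_comap.symm))

noncomputable def minimalPrimesMapEquiv {A S : Type u} [CommRing A] [CommRing S] (e : A ≃+* S) (J : Ideal A) :
    J.minimalPrimes ≃ (J.map e.toRingHom).minimalPrimes :=
  { toFun := fun P => ⟨P.1.map e.toRingHom, by
      have := Ideal.minimalPrimes_map_of_surjective (f := e.toRingHom) e.surjective J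
      rw [this, sup_eq_left.2 (by rw [(RingHom.injective_iff_ker_eq_bot e.toRingHom).1 e.injective]; exact bot_le)]
      exact ⟨P.1, P.2, rfl⟩⟩
    invFun := fun P => ⟨P.1.comap e.toRingHom, by
      have h := Ideal.minimalPrimes_comap_of_surjective (f := e.toRingHom) e.surjective (I := J.map e.toRingHom) (J := P.1) P.2
      rwa [Ideal.comap_map_of_bijective e.toRingHom e.bijective] at h⟩
    left_inv := fun P => Subtype.ext (Ideal.comap_map_of_bijective e.toRingHom e.bijective)
    right_inv := fun P => Subtype.ext (Ideal.map_comap_of_surjective e.toRingHom e.surjective P.1) }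

end Relative

theorem numGeomBranches_le_of_flat {A C : Type u} [CommRing A] [IsLocalRing A] [CommRing C] [IsLocalRing C]
    [Algebra A C] [Module.Flat A C] [IsLocalHom (algebraMap A C)] :
    Brnch.numGeomBranches A ≤ Brnch.numGeomBranches C ∧ Brnch.numBranches A ≤ Brnch.numBranches C := by
  constructor
  · obtain ⟨S, _, _, _, _, hS⟩ := Hensel.exists_isStrictHenselization A
    obtain ⟨T, _, _, _, _, hT⟩ := Hensel.exists_isStrictHenselization C
    haveI : Module.Flat C T := Hensel.strictHenselization_flat
    letI : Algebra A T := ((algebraMap C T).comp (algebraMap A C)).toAlgebra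
    haveI : IsScalarTower A C T := IsScalarTower.of_algebraMap_eq' rfl
    haveI : Module.Flat A T := Module.Flat.trans A C T
    haveI : HenselianLocalRing T := hT.henselian
    haveI : IsLocalHom (algebraMap A T) := RingHom.isLocalHom_comp _ _
    haveI := hS.isSepClosure
    haveI := hT.isSepClosure
    haveI : IsSepClosed (ResidueField T) := IsSepClosure.sep_closed (ResidueField C)
    haveI : Algebra.IsSeparable (ResidueField A) (ResidueField S) := IsSepClosure.separable
    let τ : ResidueField S →ₐ[ResidueField A] ResidueField T := IsSepClosed.lift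
    obtain ⟨g0, ⟨hg0, hgr⟩, -⟩ := hS.universal T (algebraMap A T) τ.toRingHom (RingHom.ext fun x => τ.commutes x)
    let g : S →ₐ[A] T := { g0 with commutes' := RingHom.congr_fun hg0 }
    haveI : IsLocalHom g.toRingHom := ((local_hom_TFAE _).out 2 0).1 (by
      show (maximalIdeal S).map g0 ≤ maximalIdeal T
      rw [← Hensel.strictHenselization_map_maximalIdeal (R := A) (S := S), Ideal.map_map, hg0]
      exact ((local_hom_TFAE (algebraMap A T)).out 0 2).1 ‹IsLocalHom (algebraMap A T)›)
    obtain ⟨e, -⟩ := Hensel.exists_algEquiv_hens_strict (R := A) (S := S)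
    rw [← card_strictHenselization (A := A) (S := S), ← card_strictHenselization (A := C) (S := T),
      ← ENat.card_congr (minimalPrimesEquiv e.toRingEquiv)]
    exact card_hens_le (g.comp e.toAlgHom) (hens_iso_local e g)
  · have hH : _root_.Hensel.IsHenselization A (Hensel.Hens A (ResidueField A)) := inferInstance
    have hH' : _root_.Hensel.IsHenselization C (Hensel.Hens C (ResidueField C)) := inferInstance
    let S := Hensel.Hens A (ResidueField A)
    let T := Hensel.Hens C (ResidueField C)
    haveI : Module.Flat C T := Hensel.henselization_flat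
    letI : Algebra A T := ((algebraMap C T).comp (algebraMap A C)).toAlgebra
    haveI : IsScalarTower A C T := IsScalarTower.of_algebraMap_eq' rfl
    haveI : Module.Flat A T := Module.Flat.trans A C T
    haveI : HenselianLocalRing T := hH'.henselian
    haveI : IsLocalHom (algebraMap A T) := RingHom.isLocalHom_comp _ _
    obtain ⟨g0, hg0, -⟩ := hH.universal T (algebraMap A T) inferInstance
    let g : S →ₐ[A] T := { g0 with commutes' := RingHom.congr_fun hg0 }
    haveI : IsLocalHom g.toRingHom := ((local_hom_TFAE _).out 2 0).1 (by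
      show (maximalIdeal S).map g0 ≤ maximalIdeal T
      rw [← Hensel.henselization_map_maximalIdeal (R := A) (S := S), Ideal.map_map, hg0]
      exact ((local_hom_TFAE (algebraMap A T)).out 0 2).1 ‹IsLocalHom (algebraMap A T)›)
    rw [← card_henselization (A := A) (S := S), ← card_henselization (A := C) (S := T)]
    exact card_hens_le g fun z hz => IsUnit.of_map g.toRingHom z hz

theorem numBranches_eq_of_ringEquiv {A C : Type u} [CommRing A] [IsLocalRing A] [CommRing C] [IsLocalRing C]
    (e : A ≃+* C) : Brnch.numGeomBranches A = Brnch.numGeomBranches C ∧ Brnch.numBranches A = Brnch.numBranches C := by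
  have key : ∀ {A C : Type u} [CommRing A] [IsLocalRing A] [CommRing C] [IsLocalRing C], (A ≃+* C) →
      Brnch.numGeomBranches A ≤ Brnch.numGeomBranches C ∧ Brnch.numBranches A ≤ Brnch.numBranches C := by
    intro A C _ _ _ _ e
    letI := e.toRingHom.toAlgebra
    haveI : Module.Flat A C := RingHom.Flat.of_bijective (f := e.toRingHom) e.bijective
    haveI : IsLocalHom (algebraMap A C) := ⟨fun x hx => by simpa using (show IsUnit (e x) from hx).map e.symm⟩
    exact numGeomBranches_le_of_flat
  exact ⟨le_antisymm (key e).1 (key e.symm).1, le_antisymm (key e).2 (key e.symm).2⟩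

section Stage

variable {R K : Type u} [CommRing R] [Field K] [Algebra R K] [Module.Flat R (Hens R K)] (I : Ideal R)

theorem stageMap_algebraMap (X : Nbhd R K) :
    (Branch.stageMap X).comp (algebraMap R (Localization.AtPrime (RingHom.ker X.point.toRingHom))) = algebraMap R (Hens R K) := by
  refine RingHom.ext fun r => ?_
  rw [RingHom.comp_apply, IsScalarTower.algebraMap_apply R X.carrier, Branch.stageMap, IsLocalization.lift_eq]
  exact (Hens.of X).commutes r

theorem stage_faithfullyFlat (X : Nbhd R K) :
    letI : Algebra (Localization.AtPrime (RingHom.ker X.point.toRingHom)) (Hens R K) := (Branch.stageMap X).toAlgebra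
    Module.FaithfullyFlat (Localization.AtPrime (RingHom.ker X.point.toRingHom)) (Hens R K) := by
  letI : Algebra (Localization.AtPrime (RingHom.ker X.point.toRingHom)) (Hens R K) := (Branch.stageMap X).toAlgebra
  haveI : Module.Flat (Localization.AtPrime (RingHom.ker X.point.toRingHom)) (Hens R K) :=
    (stage_flat_local (AlgHom.id R (Hens R K)) (fun _ h => h) X).1
  haveI : IsLocalHom (algebraMap (Localization.AtPrime (RingHom.ker X.point.toRingHom)) (Hens R K)) := ⟨fun z hz => by
    obtain ⟨x, s, rfl⟩ := IsLocalization.exists_mk'_eq (RingHom.ker X.point.toRingHom).primeCompl z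
    have h1 : IsUnit (Branch.stageMap X (IsLocalization.mk' _ x s)) := hz
    have h2 := h1.map (Hens.π R K)
    rw [Branch.stageMap, IsLocalization.lift_mk', map_mul, IsUnit.mul_iff] at h2
    refine IsLocalization.AtPrime.isUnit_mk'_iff _ (RingHom.ker X.point.toRingHom) x s |>.2 fun (hx : X.point x = 0) => ?_
    exact h2.1.ne_zero ((Hens.π_of X x).trans hx)⟩
  exact Module.FaithfullyFlat.of_flat_of_isLocalHom

theorem card_stage_le_rel (X : Nbhd R K) :
    ENat.card (I.map (algebraMap R (Localization.AtPrime (RingHom.ker X.point.toRingHom)))).minimalPrimes ≤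
      ENat.card (I.map (algebraMap R (Hens R K))).minimalPrimes := by
  letI : Algebra (Localization.AtPrime (RingHom.ker X.point.toRingHom)) (Hens R K) := (Branch.stageMap X).toAlgebra
  haveI := stage_faithfullyFlat X
  rw [← stageMap_algebraMap X, ← Ideal.map_map]
  choose P hP hPc using fun p : (I.map (algebraMap R (Localization.AtPrime (RingHom.ker X.point.toRingHom)))).minimalPrimes =>
    exists_mem_minimalPrimes_map (T := Hens R K) _ p.2
  exact ENat.card_le_card_of_injective
    (f := fun p => (⟨P p, hP p⟩ : ((I.map (algebraMap R (Localization.AtPrime (RingHom.ker X.point.toRingHom)))).map (Branch.stageMap X)).minimalPrimes))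
    fun p p' h => Subtype.ext ((hPc p).symm.trans ((congrArg (Ideal.comap _) (congrArg Subtype.val h)).trans (hPc p')))

theorem exists_stage_ge_rel (n : ℕ) (hn : (n : ℕ∞) ≤ ENat.card (I.map (algebraMap R (Hens R K))).minimalPrimes) :
    ∃ X : Nbhd R K, (n : ℕ∞) ≤
      ENat.card (I.map (algebraMap R (Localization.AtPrime (RingHom.ker X.point.toRingHom)))).minimalPrimes := by
  classical
  let M := (I.map (algebraMap R (Hens R K))).minimalPrimes
  obtain ⟨e, he⟩ : ∃ e : Fin n → M, Function.Injective e := by
    by_cases hfin : Finite M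
    · let _ := Fintype.ofFinite M
      rw [ENat.card_eq_coe_fintype_card, Nat.cast_le] at hn
      exact ⟨(Fintype.equivFin _).symm ∘ Fin.castLE hn, (Fintype.equivFin _).symm.injective.comp (Fin.castLE_injective hn)⟩
    · haveI := not_finite_iff_infinite.1 hfin
      exact ⟨_, ((Infinite.natEmbedding _).injective.comp (Fin.val_injective (n := n)))⟩
  have hsep : ∀ ij : Fin n × Fin n, ∃ z, ij.1 ≠ ij.2 → z ∈ (e ij.1).1 ∧ z ∉ (e ij.2).1 := by
    rintro ⟨i, j⟩
    by_cases hij : i = j
    · exact ⟨0, fun h => absurd hij h⟩
    · by_contra hc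
      push Not at hc
      exact hij (he (Subtype.ext (le_antisymm (fun z hz => (hc z).2 hz)
        ((e j).2.2 (e i).2.1 fun z hz => (hc z).2 hz))))
  choose z hz using hsep
  obtain ⟨X, c, hc⟩ := Hens.exists_rep_fintype z
  refine ⟨X, ?_⟩
  let q := RingHom.ker X.point.toRingHom
  letI : Algebra (Localization.AtPrime q) (Hens R K) := (Branch.stageMap X).toAlgebra
  haveI := stage_faithfullyFlat X
  have hmem : ∀ i, (e i).1 ∈ ((I.map (algebraMap R (Localization.AtPrime q))).map (algebraMap (Localization.AtPrime q) (Hens R K))).minimalPrimes :=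
    fun i => by
      rw [Ideal.map_map, RingHom.algebraMap_toAlgebra, stageMap_algebraMap]
      exact (e i).2
  rw [show (n : ℕ∞) = ENat.card (Fin n) by simp]
  refine ENat.card_le_card_of_injective (f := fun i => (⟨_, comap_mem_minimalPrimes_map _ (hmem i)⟩ :
    (I.map (algebraMap R (Localization.AtPrime q))).minimalPrimes)) fun i j h => ?_
  by_contra hij
  obtain ⟨h1, h2⟩ := hz (i, j) hij
  have h' := congrArg Subtype.val h
  simp only at h'
  rw [← hc (i, j)] at h1 h2
  have h3 : algebraMap X.carrier (Localization.AtPrime q) (c (i, j)) ∈ (e i).1.comap (algebraMap (Localization.AtPrime q) (Hens R K)) := by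
    show Branch.stageMap X (algebraMap X.carrier (Localization.AtPrime q) (c (i, j))) ∈ (e i).1
    rw [Branch.stageMap, IsLocalization.lift_eq]
    exact h1
  rw [h', Ideal.mem_comap] at h3
  replace h3 : Branch.stageMap X (algebraMap X.carrier (Localization.AtPrime q) (c (i, j))) ∈ (e j).1 := h3
  rw [Branch.stageMap, IsLocalization.lift_eq] at h3
  exact h2 h3

end Stage

end Groth.Agent.BranchCount
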