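import Groth.Agent.BranchCount.Fibre

/-!
# Branches of fibres via etale neighbourhoods of the total space
-/

set_option autoImplicit false
universe u

open CategoryTheory AlgebraicGeometry IsLocalRing

namespace Groth.Agent.BranchCount

open Groth.Agent.Hensel Groth.Agent.Branch

variable {X S : Scheme.{u}} (f : X ⟶ S)

/-- The ideal of the fibre in the local ring. -/
noncomputable def fibreIdeal (x : X) : Ideal (X.presheaf.stalk x) :=
  (maximalIdeal (S.presheaf.stalk (f x))).map (f.stalkMap x).hom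

theorem fibreIdeal_le (x : X) : fibreIdeal f x ≤ maximalIdeal _ :=
  ((local_hom_TFAE (f.stalkMap x).hom).out 0 2).1 (inferInstance : IsLocalHom (f.stalkMap x).hom)

/-- Components of a fibre of an etale neighbourhood through a given point. -/
theorem card_fibre_components {U : Scheme.{u}} (g : U ⟶ X) (v : U) (x : X) (hv : g v = x) {V : X.Opens}
    (hV : IsAffineOpen V) (hxV : g v ∈ V) (hx : x ∈ V) :
    {Z : Set ↑((g ≫ f).fiber (f x)) | Z ∈ irreducibleComponents ↑((g ≫ f).fiber (f x)) ∧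
        ∃ u' ∈ Z, (g ≫ f).fiberι (f x) u' = v}.encard =
      ENat.card (((fibreIdeal f x).comap (X.presheaf.germ V x hx).hom).map
        ((g.stalkMap v).hom.comp (X.presheaf.germ V (g v) hxV).hom)).minimalPrimes := by
  subst hv
  obtain ⟨w, hw⟩ : v ∈ Set.range ((g ≫ f).fiberι (f (g v))) := by
    rw [Scheme.Hom.range_fiberι]
    exact Scheme.Hom.comp_apply g f v
  have hset : {Z : Set ↑((g ≫ f).fiber (f (g v))) | Z ∈ irreducibleComponents ↑((g ≫ f).fiber (f (g v))) ∧
        ∃ u' ∈ Z, (g ≫ f).fiberι (f (g v)) u' = v} =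
      {Z | Z ∈ irreducibleComponents ↑((g ≫ f).fiber (f (g v))) ∧ w ∈ Z} := by
    ext Z
    refine and_congr Iff.rfl ⟨?_, fun h => ⟨w, h, hw⟩⟩
    rintro ⟨u', hu', h⟩
    exact ((g ≫ f).fiberι (f (g v))).isEmbedding.injective (hw.trans h.symm) ▸ hu'
  obtain ⟨e⟩ := FlatLocalDepth.nonempty_fibre_stalk_equiv (g ≫ f) (f (g v)) w v hw
  rw [hset, card_components, ← ENat.card_congr (minimalPrimesEquiv e), card_quotient]
  congr 3
  letI := TopCat.Presheaf.algebra_section_stalk X.presheaf (⟨g v, hxV⟩ : ↥V)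
  haveI := hV.isLocalization_stalk ⟨g v, hxV⟩
  have hJ : ((fibreIdeal f (g v)).comap (X.presheaf.germ V (g v) hx).hom).map (X.presheaf.germ V (g v) hxV).hom =
      fibreIdeal f (g v) :=
    IsLocalization.map_comap (hV.primeIdealOf ⟨g v, hxV⟩).asIdeal.primeCompl (X.presheaf.stalk (g v)) _
  rw [← Ideal.map_map, hJ, fibreIdeal, Ideal.map_map, Scheme.Hom.stalkMap_comp]
  rfl

theorem card_fibre_stalk_le {U : Scheme.{u}} (g : U ⟶ X) [Etale g] (v : U) {V : X.Opens} (hV : IsAffineOpen V)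
    (hxV : g v ∈ V) (K : Type u) [Field K] (j : U.residueField v →+* K) [Algebra Γ(X, V) K]
    [Module.Flat Γ(X, V) (Hens Γ(X, V) K)]
    (hj : ∀ r, algebraMap Γ(X, V) K r = j (g.residueFieldMap v (X.residue (g v) (X.presheaf.germ V (g v) hxV r))))
    (I : Ideal Γ(X, V)) :
    ENat.card (I.map ((g.stalkMap v).hom.comp (X.presheaf.germ V (g v) hxV).hom)).minimalPrimes ≤
      ENat.card (I.map (algebraMap Γ(X, V) (Hens Γ(X, V) K))).minimalPrimes := by
  obtain ⟨_, ⟨W, hW, rfl⟩, hvW, hWV⟩ :=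
    U.isBasis_affineOpens.exists_subset_of_mem_open hxV (g ⁻¹ᵁ V).isOpen
  letI := (g.appLE V W hWV).hom.toAlgebra
  haveI : Algebra.Etale Γ(X, V) Γ(U, W) :=
    RingHom.etale_algebraMap.1 (HasRingHomProperty.appLE (P := @Etale) g inferInstance ⟨V, hV⟩ ⟨W, hW⟩ hWV)
  have hgerm : ∀ r, g.stalkMap v (X.presheaf.germ V (g v) hxV r) = U.presheaf.germ W v hvW (g.appLE V W hWV r) := fun r => by
    rw [Scheme.Hom.germ_stalkMap_apply, Scheme.Hom.appLE, CommRingCat.comp_apply, TopCat.Presheaf.germ_res_apply]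
  let σ : Γ(U, W) →ₐ[Γ(X, V)] K :=
    { (j.comp ((U.residue v).hom.comp (U.presheaf.germ W v hvW).hom)) with
      commutes' := fun r => by
        show j (U.residue v (U.presheaf.germ W v hvW (g.appLE V W hWV r))) = algebraMap Γ(X, V) K r
        rw [hj, ← hgerm r]
        rfl }
  let ee := Nbhd.equiv Γ(U, W) σ
  let q := (hW.primeIdealOf ⟨v, hvW⟩).asIdeal
  letI := TopCat.Presheaf.algebra_section_stalk U.presheaf (⟨v, hvW⟩ : ↥W)
  haveI := hW.isLocalization_stalk ⟨v, hvW⟩
  have hσker : ∀ z, σ z = 0 ↔ z ∈ q := fun z => by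
    show j (residue (U.presheaf.stalk v) (algebraMap Γ(U, W) (U.presheaf.stalk v) z)) = 0 ↔ _
    refine (map_eq_zero_iff _ j.injective).trans ((residue_eq_zero_iff _).trans ?_)
    exact IsLocalization.AtPrime.to_map_mem_maximal_iff (U.presheaf.stalk v) q z
  have hmap : (RingHom.ker (Nbhd.mk' Γ(U, W) σ).point.toRingHom).primeCompl.map ee.toRingEquiv.toMonoidHom = q.primeCompl := by
    ext z
    constructor
    · rintro ⟨y, hy, rfl⟩ hz
      exact hy ((Nbhd.pt_mk' _ σ y).trans ((hσker (ee y)).2 hz))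
    · intro hz
      refine ⟨ee.symm z, fun hy => hz ((hσker z).1 ?_), ee.apply_symm_apply z⟩
      have := (Nbhd.pt_mk' _ σ (ee.symm z)).symm.trans hy
      rwa [AlgEquiv.apply_symm_apply] at this
  let φ := IsLocalization.ringEquivOfRingEquiv
    (Localization.AtPrime (RingHom.ker (Nbhd.mk' Γ(U, W) σ).point.toRingHom)) (U.presheaf.stalk v) ee.toRingEquiv hmap
  have hφ : φ.toRingHom.comp (algebraMap Γ(X, V) (Localization.AtPrime (RingHom.ker (Nbhd.mk' Γ(U, W) σ).point.toRingHom))) =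
      (g.stalkMap v).hom.comp (X.presheaf.germ V (g v) hxV).hom := by
    refine RingHom.ext fun r => ?_
    show φ (algebraMap Γ(X, V) _ r) = g.stalkMap v (X.presheaf.germ V (g v) hxV r)
    rw [IsScalarTower.algebraMap_apply Γ(X, V) (Nbhd.mk' Γ(U, W) σ).carrier, IsLocalization.ringEquivOfRingEquiv_eq, hgerm]
    show algebraMap Γ(U, W) (U.presheaf.stalk v) (ee (algebraMap Γ(X, V) _ r)) = _
    rw [AlgEquiv.commutes]
    rfl
  rw [← hφ, ← Ideal.map_map, ← ENat.card_congr (minimalPrimesMapEquiv φ _)]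
  exact card_stage_le_rel I _

theorem stalkMap_germ_Spec {R : CommRingCat.{u}} {V : X.Opens} (hV : IsAffineOpen V) (φ : Γ(X, V) ⟶ R) (v : Spec R)
    (hxV : (Spec.map φ ≫ hV.fromSpec) v ∈ V) :
    ((Spec.map φ ≫ hV.fromSpec).stalkMap v).hom.comp (X.presheaf.germ V _ hxV).hom =
      ((Spec.stalkIso R v).inv.hom.comp (algebraMap R (Localization.AtPrime v.asIdeal))).comp φ.hom := by
  have h2 := congrArg CommRingCat.Hom.hom (Spec.algebraMap_stalkIso_inv (R := R) v)
  simp only [CommRingCat.hom_comp, CommRingCat.hom_ofHom] at h2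
  rw [h2]
  refine RingHom.ext fun r => ?_
  show (Spec.map φ ≫ hV.fromSpec).stalkMap v (X.presheaf.germ V _ hxV r) = _
  have hpre : (Spec.map φ ≫ hV.fromSpec) ⁻¹ᵁ V = ⊤ := by
    rw [Scheme.Hom.comp_preimage, hV.fromSpec_preimage_self]
    rfl
  have happ : (Spec.map φ ≫ hV.fromSpec).appLE V ⊤ hpre.ge = φ ≫ (Scheme.ΓSpecIso R).inv := by
    rw [Scheme.Hom.comp_appLE, hV.fromSpec_app_self, Category.assoc, Scheme.Hom.map_appLE, Scheme.ΓSpecIso_inv_naturality,
      Scheme.Hom.appTop, Scheme.Hom.app_eq_appLE]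
    rfl
  rw [Scheme.Hom.germ_stalkMap_apply]
  have hres : ∀ s, (Spec R).presheaf.germ ((Spec.map φ ≫ hV.fromSpec) ⁻¹ᵁ V) v hxV s =
      (Spec R).presheaf.germ ⊤ v trivial ((Spec R).presheaf.map (homOfLE hpre.ge).op s) := fun s =>
    (TopCat.Presheaf.germ_res_apply _ _ _ _ _).symm
  rw [hres]
  show (Spec R).presheaf.germ ⊤ v trivial ((Spec.map φ ≫ hV.fromSpec).appLE V ⊤ hpre.ge r) = _
  rw [happ]
  rfl

theorem card_hens_le_iSup_fibre (x : X) {V : X.Opens} (hV : IsAffineOpen V) (hx : x ∈ V) (K : Type u) [Field K]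
    [Algebra Γ(X, V) K] [Module.Flat Γ(X, V) (Hens Γ(X, V) K)]
    (hker : ∀ r, algebraMap Γ(X, V) K r = 0 ↔ r ∈ (hV.primeIdealOf ⟨x, hx⟩).asIdeal)
    (P : ∀ (U : Scheme.{u}), (U ⟶ X) → U → Prop)
    (hP : ∀ (E : Type u) (_ : CommRing E) (_ : Algebra Γ(X, V) E) (_ : Algebra.Etale Γ(X, V) E) (σ : E →ₐ[Γ(X, V)] K)
      (v : ↥(Spec (CommRingCat.of E))), v.asIdeal = RingHom.ker σ.toRingHom →
      (Spec.map (CommRingCat.ofHom (algebraMap Γ(X, V) E)) ≫ hV.fromSpec) v = x →
      P _ (Spec.map (CommRingCat.ofHom (algebraMap Γ(X, V) E)) ≫ hV.fromSpec) v) :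
    ENat.card (((fibreIdeal f x).comap (X.presheaf.germ V x hx).hom).map (algebraMap Γ(X, V) (Hens Γ(X, V) K))).minimalPrimes ≤
      ⨆ (U : Scheme.{u}) (g : U ⟶ X) (u : U) (_ : P U g u),
        {Z : Set ↑((g ≫ f).fiber (f x)) | Z ∈ irreducibleComponents ↑((g ≫ f).fiber (f x)) ∧
          ∃ u' ∈ Z, (g ≫ f).fiberι (f x) u' = u}.encard := by
  refine ENat.forall_natCast_le_iff_le.1 fun n hn => ?_
  obtain ⟨N, hN⟩ := exists_stage_ge_rel _ n hn
  let v : ↥(Spec (CommRingCat.of N.carrier)) := ⟨RingHom.ker N.point.toRingHom, inferInstance⟩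
  have hv : Spec.map (CommRingCat.ofHom (algebraMap Γ(X, V) N.carrier)) v = hV.primeIdealOf ⟨x, hx⟩ := by
    refine PrimeSpectrum.ext (Ideal.ext fun r => ?_)
    show N.point (algebraMap Γ(X, V) N.carrier r) = 0 ↔ _
    rw [AlgHom.commutes]
    exact hker r
  have hgv : (Spec.map (CommRingCat.ofHom (algebraMap Γ(X, V) N.carrier)) ≫ hV.fromSpec) v = x := by
    rw [Scheme.Hom.comp_apply, hv, IsAffineOpen.fromSpec_primeIdealOf]
  refine le_trans hN ?_
  refine le_iSup_of_le (Spec (CommRingCat.of N.carrier)) (le_iSup_of_le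
    (Spec.map (CommRingCat.ofHom (algebraMap Γ(X, V) N.carrier)) ≫ hV.fromSpec) (le_iSup_of_le v (le_iSup_of_le
      (hP N.carrier inferInstance inferInstance inferInstance N.point v rfl hgv) ?_)))
  rw [card_fibre_components f _ v x hgv hV (hgv.symm ▸ hx) hx, stalkMap_germ_Spec hV _ v (hgv.symm ▸ hx), ← Ideal.map_map,
    ← Ideal.map_map]
  refine le_of_eq ?_
  refine (ENat.card_congr (minimalPrimesMapEquiv (Spec.stalkIso (CommRingCat.of N.carrier) v).symm.commRingCatIsoToRingEquiv _)).trans ?_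
  rw [Ideal.map_map, Ideal.map_map, Ideal.map_map, IsScalarTower.algebraMap_eq Γ(X, V) N.carrier (Localization.AtPrime (RingHom.ker N.point.toRingHom))]
  rfl

section Main

variable (x : X) {V : X.Opens} (hx : x ∈ V) {K : Type u} [Field K]
  [Algebra Γ(X, V) K] [Algebra (X.presheaf.stalk x) K]
  [Algebra (ResidueField (X.presheaf.stalk x)) K] [IsScalarTower (X.presheaf.stalk x) (ResidueField (X.presheaf.stalk x)) K]
  [Algebra.IsSeparable (ResidueField (X.presheaf.stalk x)) K]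

theorem card_eq_hens (hV : IsAffineOpen V) (hcomp : ∀ r, algebraMap Γ(X, V) K r = algebraMap (X.presheaf.stalk x) K (X.presheaf.germ V x hx r))
    (T : Type u) [CommRing T] [Algebra (X.presheaf.stalk x) T] (e : Hens (X.presheaf.stalk x) K ≃ₐ[X.presheaf.stalk x] T) :
    ENat.card (minimalPrimes (T ⧸ (fibreIdeal f x).map (algebraMap (X.presheaf.stalk x) T))) =
      ENat.card (((fibreIdeal f x).comap (X.presheaf.germ V x hx).hom).map (algebraMap Γ(X, V) (Hens Γ(X, V) K))).minimalPrimes := by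
  letI := TopCat.Presheaf.algebra_section_stalk X.presheaf (⟨x, hx⟩ : ↥V)
  haveI := hV.isLocalization_stalk ⟨x, hx⟩
  haveI : IsScalarTower Γ(X, V) (X.presheaf.stalk x) K := IsScalarTower.of_algebraMap_eq hcomp
  obtain ⟨e₂, he₂⟩ := exists_hens_ringEquiv (A := X.presheaf.stalk x) (K := K) (hV.primeIdealOf ⟨x, hx⟩).asIdeal
  have hJ : ((fibreIdeal f x).comap (X.presheaf.germ V x hx).hom).map (X.presheaf.germ V x hx).hom = fibreIdeal f x :=
    IsLocalization.map_comap (hV.primeIdealOf ⟨x, hx⟩).asIdeal.primeCompl (X.presheaf.stalk x) _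
  have hcomb : (e₂.trans e.toRingEquiv).toRingHom.comp (algebraMap Γ(X, V) (Hens Γ(X, V) K)) =
      (algebraMap (X.presheaf.stalk x) T).comp (X.presheaf.germ V x hx).hom := by
    refine RingHom.ext fun r => ?_
    show e (e₂ (algebraMap Γ(X, V) (Hens Γ(X, V) K) r)) = _
    rw [he₂, AlgEquiv.commutes]
    rfl
  rw [card_quotient]
  conv_lhs => rw [← hJ, Ideal.map_map, ← hcomb, ← Ideal.map_map]
  exact (ENat.card_congr (minimalPrimesMapEquiv (e₂.trans e.toRingEquiv) _)).symm

end Main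

theorem numGeomBranches_fibre (x : X) :
    Brnch.numGeomBranchesAt (f.fiber (f x)) (f.asFiber x) = ⨆ (U : Scheme.{u}) (g : U ⟶ X) (u : U) (_ : Etale g ∧ g u = x),
      {Z : Set ↑((g ≫ f).fiber (f x)) | Z ∈ irreducibleComponents ↑((g ≫ f).fiber (f x)) ∧
        ∃ u' ∈ Z, (g ≫ f).fiberι (f x) u' = u}.encard := by
  obtain ⟨_, ⟨V, hV, rfl⟩, hxV, -⟩ :=
    X.isBasis_affineOpens.exists_subset_of_mem_open (Set.mem_univ x) isOpen_univ
  let A := X.presheaf.stalk x
  let K := SeparableClosure (ResidueField A)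
  letI : Algebra A K := ((algebraMap (ResidueField A) K).comp (residue A)).toAlgebra
  haveI : IsScalarTower A (ResidueField A) K := .of_algebraMap_eq' rfl
  letI := TopCat.Presheaf.algebra_section_stalk X.presheaf (⟨x, hxV⟩ : ↥V)
  haveI := hV.isLocalization_stalk ⟨x, hxV⟩
  letI : Algebra Γ(X, V) K := ((algebraMap A K).comp (algebraMap Γ(X, V) A)).toAlgebra
  haveI : IsScalarTower Γ(X, V) A K := .of_algebraMap_eq' rfl
  have hker : ∀ r, algebraMap Γ(X, V) K r = 0 ↔ r ∈ (hV.primeIdealOf ⟨x, hxV⟩).asIdeal := fun r => by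
    rw [IsScalarTower.algebraMap_apply Γ(X, V) A K, IsScalarTower.algebraMap_apply A (ResidueField A) K,
      map_eq_zero, IsLocalRing.ResidueField.algebraMap_eq, residue_eq_zero_iff]
    exact IsLocalization.AtPrime.to_map_mem_maximal_iff A _ r
  haveI := isLocalHom_algebraMap_hens (R := A) (K := K)
  haveI := isStrictHenselization_hens (R := A) (K := K)
  haveI : Nontrivial (A ⧸ fibreIdeal f x) := Ideal.Quotient.nontrivial_iff.2 fun h =>
    (maximalIdeal.isMaximal A).ne_top (top_le_iff.1 (h ▸ fibreIdeal_le f x))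
  haveI : IsLocalRing (A ⧸ fibreIdeal f x) := IsLocalRing.of_surjective' _ Ideal.Quotient.mk_surjective
  have hne : (fibreIdeal f x).map (algebraMap A (Hens A K)) ≤ maximalIdeal (Hens A K) :=
    (Ideal.map_mono (fibreIdeal_le f x)).trans (((local_hom_TFAE (algebraMap A (Hens A K))).out 0 2).1 ‹_›)
  haveI : Nontrivial (Hens A K ⧸ (fibreIdeal f x).map (algebraMap A (Hens A K))) := Ideal.Quotient.nontrivial_iff.2 fun h =>
    (maximalIdeal.isMaximal (Hens A K)).ne_top (top_le_iff.1 (h ▸ hne))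
  haveI : IsLocalRing (Hens A K ⧸ (fibreIdeal f x).map (algebraMap A (Hens A K))) := IsLocalRing.of_surjective' _ Ideal.Quotient.mk_surjective
  haveI : IsLocalHom (Ideal.Quotient.mk ((fibreIdeal f x).map (algebraMap A (Hens A K)))) := IsLocalHom.of_surjective _ Ideal.Quotient.mk_surjective
  haveI : IsLocalHom (algebraMap (A ⧸ fibreIdeal f x) (Hens A K ⧸ (fibreIdeal f x).map (algebraMap A (Hens A K)))) := ⟨fun z hz => by
    obtain ⟨a, rfl⟩ := Ideal.Quotient.mk_surjective z
    exact (IsUnit.of_map (algebraMap A (Hens A K)) a (IsUnit.of_map (Ideal.Quotient.mk _) _ hz)).map _⟩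
  haveI := Hensel.isStrictHenselization_quotient (R := A) (S := Hens A K) (fibreIdeal f x)
  obtain ⟨e⟩ := FlatLocalDepth.nonempty_asFiber_stalk_equiv f x
  rw [Brnch.numGeomBranchesAt, ← (numBranches_eq_of_ringEquiv (A := A ⧸ fibreIdeal f x) e).1,
    ← card_strictHenselization (A := A ⧸ fibreIdeal f x) (S := Hens A K ⧸ (fibreIdeal f x).map (algebraMap A (Hens A K))),
    card_eq_hens f x hxV hV (fun r => rfl) (Hens A K) AlgEquiv.refl]
  haveI : Module.Flat Γ(X, V) (Hens Γ(X, V) K) := Hens.flat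
  refine le_antisymm (card_hens_le_iSup_fibre f x hV hxV K hker _ fun E _ _ _ σ v _ hv => ⟨?_, hv⟩) ?_
  · haveI : Etale (Spec.map (CommRingCat.ofHom (algebraMap Γ(X, V) E))) :=
      (HasRingHomProperty.Spec_iff (P := @Etale)).2 (RingHom.etale_algebraMap.2 ‹_›)
    infer_instance
  · refine iSup_le fun U => iSup_le fun g => iSup_le fun v => iSup_le fun ⟨hg, hv⟩ => ?_
    subst hv
    letI := (g.residueFieldMap v).hom.toAlgebra
    let l : U.residueField v →ₐ[X.residueField (g v)] SeparableClosure (X.residueField (g v)) := IsSepClosed.lift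
    rw [card_fibre_components f g v (g v) rfl hV hxV hxV]
    exact card_fibre_stalk_le g v hV hxV K l.toRingHom (fun r => (l.commutes (X.residue (g v) (X.presheaf.germ V (g v) hxV r))).symm) _

theorem numBranches_fibre (x : X) :
    Brnch.numBranchesAt (f.fiber (f x)) (f.asFiber x) = ⨆ (U : Scheme.{u}) (g : U ⟶ X) (u : U) (_ : Hens2.IsEtaleNbhd g u x),
      {Z : Set ↑((g ≫ f).fiber (f x)) | Z ∈ irreducibleComponents ↑((g ≫ f).fiber (f x)) ∧
        ∃ u' ∈ Z, (g ≫ f).fiberι (f x) u' = u}.encard := by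
  obtain ⟨_, ⟨V, hV, rfl⟩, hxV, -⟩ :=
    X.isBasis_affineOpens.exists_subset_of_mem_open (Set.mem_univ x) isOpen_univ
  let A := X.presheaf.stalk x
  let K := ResidueField A
  letI := TopCat.Presheaf.algebra_section_stalk X.presheaf (⟨x, hxV⟩ : ↥V)
  haveI := hV.isLocalization_stalk ⟨x, hxV⟩
  letI : Algebra Γ(X, V) K := ((residue A).comp (algebraMap Γ(X, V) A)).toAlgebra
  haveI : IsScalarTower Γ(X, V) A K := .of_algebraMap_eq' rfl
  have hker : ∀ r, algebraMap Γ(X, V) K r = 0 ↔ r ∈ (hV.primeIdealOf ⟨x, hxV⟩).asIdeal := fun r => by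
    show residue A (algebraMap Γ(X, V) A r) = 0 ↔ _
    rw [residue_eq_zero_iff]
    exact IsLocalization.AtPrime.to_map_mem_maximal_iff A _ r
  haveI : Nontrivial (A ⧸ fibreIdeal f x) := Ideal.Quotient.nontrivial_iff.2 fun h =>
    (maximalIdeal.isMaximal A).ne_top (top_le_iff.1 (h ▸ fibreIdeal_le f x))
  haveI : IsLocalRing (A ⧸ fibreIdeal f x) := IsLocalRing.of_surjective' _ Ideal.Quotient.mk_surjective
  have hne : (fibreIdeal f x).map (algebraMap A (Hens A K)) ≤ maximalIdeal (Hens A K) :=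
    (Ideal.map_mono (fibreIdeal_le f x)).trans (((local_hom_TFAE (algebraMap A (Hens A K))).out 0 2).1 (inferInstance : IsLocalHom (algebraMap A (Hens A K))))
  haveI : Nontrivial (Hens A K ⧸ (fibreIdeal f x).map (algebraMap A (Hens A K))) := Ideal.Quotient.nontrivial_iff.2 fun h =>
    (maximalIdeal.isMaximal (Hens A K)).ne_top (top_le_iff.1 (h ▸ hne))
  haveI : IsLocalRing (Hens A K ⧸ (fibreIdeal f x).map (algebraMap A (Hens A K))) := IsLocalRing.of_surjective' _ Ideal.Quotient.mk_surjective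
  haveI : IsLocalHom (Ideal.Quotient.mk ((fibreIdeal f x).map (algebraMap A (Hens A K)))) := IsLocalHom.of_surjective _ Ideal.Quotient.mk_surjective
  haveI : IsLocalHom (algebraMap (A ⧸ fibreIdeal f x) (Hens A K ⧸ (fibreIdeal f x).map (algebraMap A (Hens A K)))) := ⟨fun z hz => by
    obtain ⟨a, rfl⟩ := Ideal.Quotient.mk_surjective z
    exact (IsUnit.of_map (algebraMap A (Hens A K)) a (IsUnit.of_map (Ideal.Quotient.mk _) _ hz)).map _⟩
  haveI := Groth.Agent.S13598.result (S := Hens A K) (fibreIdeal f x) (fibreIdeal_le f x)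
  obtain ⟨e⟩ := FlatLocalDepth.nonempty_asFiber_stalk_equiv f x
  rw [Brnch.numBranchesAt, ← (numBranches_eq_of_ringEquiv (A := A ⧸ fibreIdeal f x) e).2,
    ← card_henselization (A := A ⧸ fibreIdeal f x) (S := Hens A K ⧸ (fibreIdeal f x).map (algebraMap A (Hens A K))),
    card_eq_hens f x hxV hV (fun r => rfl) (Hens A K) AlgEquiv.refl]
  haveI : Module.Flat Γ(X, V) (Hens Γ(X, V) K) := Hens.flat
  refine le_antisymm (card_hens_le_iSup_fibre f x hV hxV K hker (fun U g u => Hens2.IsEtaleNbhd g u x)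
    fun E _ _ _ σ v hvσ hv => ⟨?_, hv, ?_⟩) ?_
  · haveI : Etale (Spec.map (CommRingCat.ofHom (algebraMap Γ(X, V) E))) :=
      (HasRingHomProperty.Spec_iff (P := @Etale)).2 (RingHom.etale_algebraMap.2 ‹_›)
    infer_instance
  · refine ⟨RingHom.injective _, residueFieldMap_surjective_of _ v ?_⟩
    rw [Scheme.Hom.stalkMap_comp]
    refine (residue_surjective_respectsIso.cancel_left_isIso (hV.fromSpec.stalkMap (Spec.map (CommRingCat.ofHom (algebraMap Γ(X, V) E)) v)) ((Spec.map (CommRingCat.ofHom (algebraMap Γ(X, V) E))).stalkMap v)).2 ?_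
    refine (residue_surjective_respectsIso.arrow_mk_iso_iff (Scheme.arrowStalkMapSpecIso _ v)).2
      (localRingHom_residue_surjective (algebraMap Γ(X, V) E) v.asIdeal fun c t ht => ?_)
    have hσ : ∀ y, σ y = 0 ↔ y ∈ v.asIdeal := fun y => by rw [hvσ]; exact Iff.rfl
    obtain ⟨a, ha⟩ := residue_surjective (σ c / σ t)
    obtain ⟨r, ⟨s, hs⟩, rfl⟩ := IsLocalization.exists_mk'_eq (hV.primeIdealOf ⟨x, hxV⟩).asIdeal.primeCompl a
    refine ⟨r, s, fun hy' => hs ((hker s).1 (by rw [← σ.commutes]; exact (hσ _).2 hy')), (hσ _).1 ?_⟩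
    rw [map_sub, map_mul, map_mul, sub_eq_zero, AlgHom.commutes, AlgHom.commutes]
    have h3 : residue A (IsLocalization.mk' A r ⟨s, hs⟩) * algebraMap Γ(X, V) K s = algebraMap Γ(X, V) K r := by
      show _ * residue A (algebraMap Γ(X, V) A s) = residue A (algebraMap Γ(X, V) A r)
      rw [← map_mul, IsLocalization.mk'_spec A r ⟨s, hs⟩]
    rw [ha, div_mul_eq_mul_div, div_eq_iff (fun h0 => ht ((hσ t).1 h0))] at h3
    exact h3
  · refine iSup_le fun U => iSup_le fun g => iSup_le fun v => iSup_le fun hgv => ?_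
    obtain ⟨hg, hv, hres⟩ := hgv
    subst hv
    let j := RingEquiv.ofBijective (g.residueFieldMap v).hom hres
    rw [card_fibre_components f g v (g v) rfl hV hxV hxV]
    exact card_fibre_stalk_le g v hV hxV K j.symm.toRingHom (fun r => (j.symm_apply_apply (X.residue (g v) (X.presheaf.germ V (g v) hxV r))).symm) _

end Groth.Agent.BranchCount
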