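import Groth.Agent.BranchCount.Fibre
import Groth.Agent.Branch.FieldExt
import Groth.Agent.Branch.SmoothLocal
import Groth.Agent.RegLocus.FieldTensor
import Groth.Agent.NormSH.Main
import Groth.Agent.GeomRedStrata.Basic

/-!
# Geometric branches are insensitive to field extensions
-/

set_option autoImplicit false
set_option linter.style.haveILetI false
universe u

open TensorProduct IsLocalRing

namespace Groth.Agent.BranchCount

/-- A strictly henselian domain is geometrically unibranch. -/
theorem isGeomUnibranch_of_strictlyHenselian (D : Type u) [CommRing D] [IsDomain D] [HenselianLocalRing D]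
    [IsSepClosed (ResidueField D)] : CAlg2.IsGeomUnibranch D := by
  haveI hprime : (nilradical D).IsPrime := by rw [nilradical_eq_zero]; exact Ideal.isPrime_bot
  haveI : IsDomain (CAlg2.red D) := Ideal.Quotient.isDomain _
  haveI : Algebra.IsIntegral D (CAlg2.red D) :=
    ⟨fun x => (Ideal.Quotient.mk_surjective x).elim fun a ha => ha ▸ isIntegral_algebraMap⟩
  haveI : Algebra.IsIntegral D (CAlg2.normRed D) := Algebra.IsIntegral.trans (CAlg2.red D)
  haveI hloc : IsLocalRing (CAlg2.normRed D) := NormSH.isLocalRing_of_isDomain_integral D (CAlg2.normRed D)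
  haveI := Branch.isLocalHom_normRed D
  refine ⟨⟨inferInstance, hloc⟩, (Branch.insep_iff (A := D)).2 fun y => ?_⟩
  haveI : Algebra.IsAlgebraic (ResidueField D) (ResidueField (CAlg2.normRed D)) := by
    haveI : Algebra.IsIntegral (ResidueField D) (ResidueField (CAlg2.normRed D)) := ⟨fun x => by
      obtain ⟨z, rfl⟩ := residue_surjective x
      obtain ⟨P, hP, hP'⟩ := Algebra.IsIntegral.isIntegral (R := D) z
      refine ⟨P.map (residue D), hP.map _, ?_⟩
      rw [Polynomial.eval₂_map, show (algebraMap (ResidueField D) (ResidueField (CAlg2.normRed D))).comp (residue D) =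
          (residue _).comp (algebraMap D (CAlg2.normRed D)) from rfl, ← Polynomial.hom_eval₂, hP', map_zero]⟩
    infer_instance
  haveI : IsPurelyInseparable (ResidueField D) (ResidueField (CAlg2.normRed D)) := inferInstance
  set e := ringExpChar (ResidueField (CAlg2.normRed D))
  haveI : ExpChar (ResidueField (CAlg2.normRed D)) e := ringExpChar.expChar _
  haveI : ExpChar (ResidueField D) e :=
    (algebraMap (ResidueField D) (ResidueField (CAlg2.normRed D))).expChar (RingHom.injective _) e
  obtain ⟨n, a, ha⟩ := IsPurelyInseparable.pow_mem (ResidueField D) e (residue _ y)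
  obtain ⟨d, rfl⟩ := residue_surjective a
  refine ⟨n, d, ?_⟩
  rw [← residue_eq_zero_iff, map_sub, map_pow, ← ha]
  exact sub_self _

theorem henselianLocalRing_quotient (S : Type u) [CommRing S] [HenselianLocalRing S] (P : Ideal S)
    [IsLocalRing (S ⧸ P)] : HenselianLocalRing (S ⧸ P) := by
  have : HenselianRing S (maximalIdeal S) := Hensel.henselianLocalRing_iff_henselianRing.mp inferInstance
  rw [Hensel.henselianLocalRing_iff_henselianRing,
    ← IsLocalRing.map_maximalIdeal_of_surjective (Ideal.Quotient.mk P) Ideal.Quotient.mk_surjective]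
  exact Hensel.henselianRing_quotient P

/-- The fibre of the base change over a minimal prime of a strictly henselian algebra is geometrically unibranch. -/
theorem isGeomUnibranch_quotient {k S K : Type u} [Field k] [CommRing S] [HenselianLocalRing S] [Algebra k S]
    [IsSepClosed (ResidueField S)] [Field K] [Algebra k K] (P : Ideal S) [P.IsPrime]
    (Q : Ideal (S ⊗[k] K)) [Q.IsPrime] (hQ : Q.comap (algebraMap S (S ⊗[k] K)) = maximalIdeal S)
    [IsLocalRing (Localization.AtPrime Q ⧸ P.map (algebraMap S (Localization.AtPrime Q)))] :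
    CAlg2.IsGeomUnibranch (Localization.AtPrime Q ⧸ P.map (algebraMap S (Localization.AtPrime Q))) := by
  haveI : IsLocalRing (S ⧸ P) := IsLocalRing.of_surjective' (Ideal.Quotient.mk P) Ideal.Quotient.mk_surjective
  haveI := henselianLocalRing_quotient S P
  haveI hl : IsLocalHom (Ideal.Quotient.mk P) := IsLocalHom.of_surjective _ Ideal.Quotient.mk_surjective
  haveI : IsSepClosed (ResidueField (S ⧸ P)) := Hensel.isSepClosed_of_ringEquiv (RingEquiv.ofBijective
    (ResidueField.map (Ideal.Quotient.mk P)) ⟨RingHom.injective _, fun z => by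
      obtain ⟨y, rfl⟩ := residue_surjective z
      obtain ⟨x, rfl⟩ := Ideal.Quotient.mk_surjective y
      exact ⟨residue S x, rfl⟩⟩)
  let f : S →ₐ[k] S ⧸ P := Ideal.Quotient.mkₐ k P
  let π : S ⊗[k] K →ₐ[k] (S ⧸ P) ⊗[k] K := Algebra.TensorProduct.map f (AlgHom.id k K)
  have hf : Function.Surjective f := Ideal.Quotient.mk_surjective
  have hπ : Function.Surjective π := by
    intro z
    induction z using TensorProduct.induction_on with
    | zero => exact ⟨0, map_zero _⟩
    | add a b ha hb =>
      obtain ⟨a', rfl⟩ := ha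
      obtain ⟨b', rfl⟩ := hb
      exact ⟨a' + b', map_add _ _ _⟩
    | tmul a x =>
      obtain ⟨a', rfl⟩ := hf a
      exact ⟨a' ⊗ₜ x, by simp [π]⟩
  have hker : RingHom.ker π.toRingHom = P.map (algebraMap S (S ⊗[k] K)) := by
    show RingHom.ker π = _
    rw [Algebra.TensorProduct.rTensor_ker (R := k) (C := K) (f := f) hf,
      show RingHom.ker f = P from Ideal.mk_ker]
    rfl
  have hPQ : P.map (algebraMap S (S ⊗[k] K)) ≤ Q :=
    Ideal.map_le_iff_le_comap.2 (hQ ▸ le_maximalIdeal Ideal.IsPrime.ne_top')
  let Qb : Ideal ((S ⧸ P) ⊗[k] K) := Q.map π.toRingHom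
  haveI : Qb.IsPrime := Ideal.map_isPrime_of_surjective hπ (hker ▸ hPQ)
  have hQb : Qb.comap π.toRingHom = Q := by
    show Ideal.comap π.toRingHom (Ideal.map π.toRingHom Q) = Q
    rw [Ideal.comap_map_of_surjective π.toRingHom hπ, sup_eq_left]
    exact (show Ideal.comap π.toRingHom ⊥ ≤ Q from hker.le.trans hPQ)
  have hQbmax : Qb.comap (algebraMap (S ⧸ P) ((S ⧸ P) ⊗[k] K)) = maximalIdeal (S ⧸ P) := by
    refine Ideal.comap_injective_of_surjective (Ideal.Quotient.mk P) Ideal.Quotient.mk_surjective ?_
    rw [Ideal.comap_comap, IsLocalRing.eq_maximalIdeal (Ideal.comap_isMaximal_of_surjective (Ideal.Quotient.mk P)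
      Ideal.Quotient.mk_surjective (K := maximalIdeal (S ⧸ P))), ← hQ, ← hQb, Ideal.comap_comap]
    congr 1
  have hGU := Branch.isGeomUnibranch_tensor_field_local k (S ⧸ P) K (isGeomUnibranch_of_strictlyHenselian _) Qb hQbmax
  let F := Localization.localRingHom Q Qb π.toRingHom hQb.symm
  have hFs : Function.Surjective F := fun z => by
    obtain ⟨r, ⟨s, hs⟩, rfl⟩ := IsLocalization.exists_mk'_eq Qb.primeCompl z
    obtain ⟨r', rfl⟩ := hπ r
    obtain ⟨s', rfl⟩ := hπ s
    exact ⟨IsLocalization.mk' _ r' (⟨s', fun h => hs (Ideal.mem_map_of_mem _ h)⟩ : Q.primeCompl),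
      Localization.localRingHom_mk' _ _ _ _ _ _⟩
  have hFk : RingHom.ker F = P.map (algebraMap S (Localization.AtPrime Q)) := by
    rw [IsScalarTower.algebraMap_eq S (S ⊗[k] K) (Localization.AtPrime Q), ← Ideal.map_map, ← hker]
    refine le_antisymm (fun z hz => ?_) (Ideal.map_le_iff_le_comap.2 fun r hr => ?_)
    · obtain ⟨r, s, rfl⟩ := IsLocalization.exists_mk'_eq Q.primeCompl z
      rw [RingHom.mem_ker, Localization.localRingHom_mk', IsLocalization.mk'_eq_zero_iff] at hz
      obtain ⟨⟨t, ht⟩, htr⟩ := hz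
      obtain ⟨t', rfl⟩ := hπ t
      refine (IsLocalization.mk'_mem_map_algebraMap_iff Q.primeCompl _ _ _ _).2
        ⟨t', fun h => ht (Ideal.mem_map_of_mem _ h), ?_⟩
      rw [RingHom.mem_ker, map_mul]
      exact htr
    · rw [Ideal.mem_comap, RingHom.mem_ker, Localization.localRingHom_to_map, show π.toRingHom r = 0 from hr, map_zero]
  exact Branch.isGeomUnibranch_of_ringEquiv
    ((Ideal.quotEquivOfEq hFk.symm).trans (RingHom.quotientKerEquivOfSurjective hFs)).symm hGU

/-- A field extension does not change the number of geometric branches. -/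
theorem numGeomBranches_tensor_field (k A K : Type u) [Field k] [CommRing A] [IsLocalRing A] [Algebra k A]
    [Field K] [Algebra k K] (q : Ideal (A ⊗[k] K)) [q.IsPrime]
    (hq : q.comap (algebraMap A (A ⊗[k] K)) = maximalIdeal A) :
    Brnch.numGeomBranches A = Brnch.numGeomBranches (Localization.AtPrime q) := by
  let T := Localization.AtPrime q
  haveI : Module.Flat (A ⊗[k] K) T := IsLocalization.flat _ q.primeCompl
  haveI : Module.Flat A T := Module.Flat.trans A (A ⊗[k] K) _
  haveI : IsLocalHom (algebraMap A T) := ⟨fun a ha => IsLocalRing.notMem_maximalIdeal.1 fun hm => by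
    rw [← hq, Ideal.mem_comap] at hm
    exact (IsLocalization.AtPrime.isUnit_to_map_iff T q _).1 ha hm⟩
  refine le_antisymm (numGeomBranches_le_of_flat (A := A) (C := T)).1 ?_
  obtain ⟨S, _, _, _, _, hS⟩ := Hensel.exists_isStrictHenselization A
  haveI := hS.henselian
  haveI := hS.isSepClosure
  haveI : IsSepClosed (ResidueField S) := IsSepClosure.sep_closed (ResidueField A)
  haveI : Algebra.IsSeparable (ResidueField A) (ResidueField S) := IsSepClosure.separable
  letI : Algebra k S := ((algebraMap A S).comp (algebraMap k A)).toAlgebra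
  haveI : IsScalarTower k A S := IsScalarTower.of_algebraMap_eq' rfl
  let φ : A ⊗[k] K →ₐ[k] S ⊗[k] K := Algebra.TensorProduct.map (IsScalarTower.toAlgHom k A S) (AlgHom.id k K)
  -- a point of the base change over `q` and the closed point
  let Ω := AlgebraicClosure q.ResidueField
  let ω : A ⊗[k] K →+* Ω := (algebraMap q.ResidueField Ω).comp (algebraMap _ q.ResidueField)
  have hω : RingHom.ker ω = q := by
    rw [RingHom.ker_comp_of_injective _ (RingHom.injective _), Ideal.ker_algebraMap_residueField]
  let ωA : ResidueField A →+* Ω := Ideal.Quotient.lift (maximalIdeal A) (ω.comp (algebraMap A (A ⊗[k] K)))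
    fun a ha => by
      rw [← hq, ← hω] at ha
      exact ha
  letI : Algebra (ResidueField A) Ω := ωA.toAlgebra
  let ι : ResidueField S →ₐ[ResidueField A] Ω := IsAlgClosed.lift
  let gS : S →+* Ω := ι.toRingHom.comp (residue S)
  have hgS : gS.comp (algebraMap A S) = ω.comp (algebraMap A (A ⊗[k] K)) :=
    RingHom.ext fun a => ι.commutes (residue A a)
  letI : Algebra k Ω := (ω.comp (algebraMap k (A ⊗[k] K))).toAlgebra
  let hS' : S →ₐ[k] Ω := { gS with commutes' := fun c => (RingHom.congr_fun hgS (algebraMap k A c)).trans (by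
    show ω _ = ω _
    rw [← IsScalarTower.algebraMap_apply]) }
  let hK : K →ₐ[k] Ω := { ω.comp (Algebra.TensorProduct.includeRight : K →ₐ[k] A ⊗[k] K).toRingHom with
    commutes' := fun c => congrArg ω ((Algebra.TensorProduct.includeRight : K →ₐ[k] A ⊗[k] K).commutes c) }
  let χ := Algebra.TensorProduct.lift hS' hK fun _ _ => Commute.all _ _
  let Q := RingHom.ker χ.toRingHom
  haveI : Q.IsPrime := RingHom.ker_isPrime _
  have hχS : χ.toRingHom.comp (algebraMap S (S ⊗[k] K)) = gS := RingHom.ext fun s => by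
    show χ (s ⊗ₜ[k] 1) = gS s
    simp [χ, hS']
  have hQS : Q.comap (algebraMap S (S ⊗[k] K)) = maximalIdeal S := by
    rw [RingHom.comap_ker, hχS, RingHom.ker_comp_of_injective _ ι.toRingHom.injective]
    exact Ideal.mk_ker
  have hQq : q = Q.comap φ.toRingHom := by
    refine hω.symm.trans (Eq.trans ?_ (RingHom.comap_ker _ _).symm)
    refine congrArg RingHom.ker (congrArg AlgHom.toRingHom (Algebra.TensorProduct.ext (R := k)
      (f := ({ ω with commutes' := fun _ => rfl } : A ⊗[k] K →ₐ[k] Ω))
      (g := χ.comp φ) (AlgHom.ext fun a => ?_) (AlgHom.ext fun x => ?_)))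
    · show ω (a ⊗ₜ[k] 1) = χ (φ (a ⊗ₜ[k] 1))
      rw [show φ (a ⊗ₜ[k] (1 : K)) = algebraMap A S a ⊗ₜ[k] (1 : K) from Algebra.TensorProduct.map_tmul _ _ _ _]
      exact ((RingHom.congr_fun hgS a).symm).trans (RingHom.congr_fun hχS _).symm
    · show ω (1 ⊗ₜ[k] x) = χ (φ (1 ⊗ₜ[k] x))
      simp [φ, χ, hS', hK]
  -- compare strict henselizations
  let U := Localization.AtPrime Q
  letI : Algebra T U := (Localization.localRingHom q Q φ.toRingHom hQq).toAlgebra
  haveI : IsLocalHom (algebraMap T U) := Localization.isLocalHom_localRingHom _ _ _ _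
  letI : Algebra (A ⊗[k] K) (S ⊗[k] K) := φ.toRingHom.toAlgebra
  haveI : Module.Flat (A ⊗[k] K) (S ⊗[k] K) := by
    haveI : Module.Flat A S := Hensel.strictHenselization_flat
    exact RegLocus.flat_map_tensor k K A S
  haveI : Module.Flat (S ⊗[k] K) U := IsLocalization.flat _ Q.primeCompl
  haveI : IsScalarTower (A ⊗[k] K) T U :=
    IsScalarTower.of_algebraMap_eq fun x => (Localization.localRingHom_to_map q Q φ.toRingHom hQq x).symm
  haveI : Module.Flat (A ⊗[k] K) U := Module.Flat.trans _ (S ⊗[k] K) _
  haveI : Module.Flat T U := (Module.flat_iff_of_isLocalization T q.primeCompl U).2 inferInstance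
  refine ((numGeomBranches_le_of_flat (A := T) (C := U)).1).trans ?_
  obtain ⟨W, _, _, _, _, hW⟩ := Hensel.exists_isStrictHenselization U
  rw [← card_strictHenselization (A := U) (S := W), ← card_strictHenselization (A := A) (S := S)]
  haveI : Module.Flat U W := Hensel.strictHenselization_flat
  letI : Algebra S W := ((algebraMap U W).comp (algebraMap S U)).toAlgebra
  haveI : IsScalarTower S U W := IsScalarTower.of_algebraMap_eq' rfl
  haveI : Module.Flat S U := Module.Flat.trans S (S ⊗[k] K) _
  haveI : Module.Flat S W := Module.Flat.trans S U W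
  have hmin : ∀ w : minimalPrimes W, w.1.comap (algebraMap S W) ∈ minimalPrimes S := fun w =>
    comap_mem_minimalPrimes_of_flat w.2
  refine ENat.card_le_card_of_injective (f := fun w => (⟨_, hmin w⟩ : minimalPrimes S)) fun w w' hww' => ?_
  have hww : w.1.comap (algebraMap S W) = w'.1.comap (algebraMap S W) := congrArg Subtype.val hww'
  let P := w.1.comap (algebraMap S W)
  haveI : P.IsPrime := (hmin w).1.1
  let I : Ideal U := P.map (algebraMap S U)
  have hmem : ∀ v : minimalPrimes W, P ≤ v.1.comap (algebraMap S W) → v.1 ∈ (I.map (algebraMap U W)).minimalPrimes := by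
    intro v hv
    rw [Ideal.map_map, ← IsScalarTower.algebraMap_eq]
    exact ⟨⟨v.2.1.1, Ideal.map_le_iff_le_comap.2 hv⟩, fun R hR hle => v.2.2 ⟨hR.1, bot_le⟩ hle⟩
  haveI := w.2.1.1
  have hIW : I.map (algebraMap U W) ≠ ⊤ := fun h =>
    w.2.1.1.ne_top (top_le_iff.1 (h ▸ (hmem w le_rfl).1.2))
  have hI : I ≠ ⊤ := fun h => hIW (by rw [h, Ideal.map_top])
  haveI : Nontrivial (U ⧸ I) := Ideal.Quotient.nontrivial_iff.2 hI
  haveI : Nontrivial (W ⧸ I.map (algebraMap U W)) := Ideal.Quotient.nontrivial_iff.2 hIW
  haveI : IsLocalRing (U ⧸ I) := IsLocalRing.of_surjective' (Ideal.Quotient.mk I) Ideal.Quotient.mk_surjective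
  haveI : IsLocalRing (W ⧸ I.map (algebraMap U W)) := IsLocalRing.of_surjective' (Ideal.Quotient.mk _) Ideal.Quotient.mk_surjective
  haveI : IsLocalHom (algebraMap (U ⧸ I) (W ⧸ I.map (algebraMap U W))) :=
    haveI : IsLocalHom ((Ideal.Quotient.mk (I.map (algebraMap U W))).comp (algebraMap U W)) := by
      haveI := IsLocalHom.of_surjective (Ideal.Quotient.mk (I.map (algebraMap U W))) Ideal.Quotient.mk_surjective
      exact RingHom.isLocalHom_comp _ _
    ⟨fun z hz => by
      obtain ⟨u, rfl⟩ := Ideal.Quotient.mk_surjective z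
      refine (IsUnit.of_map ((Ideal.Quotient.mk (I.map (algebraMap U W))).comp (algebraMap U W)) u ?_).map _
      convert hz using 1
      exact IsScalarTower.algebraMap_apply U (U ⧸ I) (W ⧸ I.map (algebraMap U W)) u⟩
  haveI := Hensel.isStrictHenselization_quotient (R := U) (S := W) I
  have hGU : CAlg2.IsGeomUnibranch (U ⧸ I) := isGeomUnibranch_quotient P Q hQS
  rw [← numGeomBranches_eq_one_iff, ← card_strictHenselization (A := U ⧸ I) (S := W ⧸ I.map (algebraMap U W)),
    card_quotient] at hGU
  haveI := ENat.card_le_one_iff_subsingleton _ |>.1 hGU.le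
  have h2 : (⟨w.1, hmem w le_rfl⟩ : (I.map (algebraMap U W)).minimalPrimes) = ⟨w'.1, hmem w' hww.le⟩ :=
    Subsingleton.elim _ _
  exact Subtype.ext (show w.1 = w'.1 from congrArg (fun v : (I.map (algebraMap U W)).minimalPrimes => v.1) h2)

end Groth.Agent.BranchCount

namespace Groth.Agent.BranchCount

/-- The same, read at a prime of `K ⊗ A` over a prime of `A`. -/
theorem numGeomBranches_tensor_field_atPrime (k A K : Type u) [Field k] [CommRing A] [Algebra k A]
    [Field K] [Algebra k K] (p : Ideal A) [p.IsPrime] (Q : Ideal (K ⊗[k] A)) [Q.IsPrime]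
    (hQ : Q.comap (Algebra.TensorProduct.includeRight (R := k) (A := K) (B := A)).toRingHom = p) :
    Brnch.numGeomBranches (Localization.AtPrime p) = Brnch.numGeomBranches (Localization.AtPrime Q) := by
  let Ap := Localization.AtPrime p
  let φ : K ⊗[k] A →ₐ[k] K ⊗[k] Ap :=
    Algebra.TensorProduct.map (AlgHom.id k K) (IsScalarTower.toAlgHom k A Ap)
  letI : Algebra (K ⊗[k] A) (K ⊗[k] Ap) :=
    (Algebra.TensorProduct.map (AlgHom.id K K) (IsScalarTower.toAlgHom k A Ap)).toRingHom.toAlgebra
  haveI := GeomRedStrata.isLocalization_baseChange k K p.primeCompl Ap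
  let S := p.primeCompl.map (Algebra.TensorProduct.includeRight (R := k) (A := K) (B := A))
  have hdisj : Disjoint (S : Set (K ⊗[k] A)) Q := by
    rw [Set.disjoint_left]
    rintro _ ⟨a, ha, rfl⟩ h
    exact ha (by rw [← hQ]; exact h)
  let M : Ideal (K ⊗[k] Ap) := Q.map (algebraMap _ _)
  haveI : M.IsPrime := IsLocalization.isPrime_of_isPrime_disjoint S _ Q inferInstance hdisj
  have hM : M.comap (algebraMap (K ⊗[k] A) _) = Q :=
    IsLocalization.comap_map_of_isPrime_disjoint S _ inferInstance hdisj
  haveI : IsLocalization.AtPrime (Localization.AtPrime M) Q := by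
    simpa only [hM] using IsLocalization.isLocalization_isLocalization_atPrime_isLocalization S
      (Localization.AtPrime M) M
  let e1 : Localization.AtPrime M ≃+* Localization.AtPrime Q :=
    (IsLocalization.algEquiv Q.primeCompl _ _).toRingEquiv
  let c : Ap ⊗[k] K ≃+* K ⊗[k] Ap := (Algebra.TensorProduct.comm k Ap K).toRingEquiv
  let q : Ideal (Ap ⊗[k] K) := M.comap c.toRingHom
  haveI : q.IsPrime := Ideal.IsPrime.comap _
  have hq : q.comap (algebraMap Ap (Ap ⊗[k] K)) = maximalIdeal Ap := by
    haveI : (q.comap (algebraMap Ap (Ap ⊗[k] K))).IsPrime := Ideal.IsPrime.comap _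
    refine IsLocalization.orderEmbedding p.primeCompl Ap |>.injective ?_
    show (q.comap (algebraMap Ap (Ap ⊗[k] K))).comap (algebraMap A Ap) = (maximalIdeal Ap).comap (algebraMap A Ap)
    refine Eq.trans ?_ (IsLocalization.AtPrime.comap_maximalIdeal Ap p).symm
    refine Eq.trans ?_ hQ
    rw [← hM]
    simp only [q, Ideal.comap_comap]
    congr 1
  rw [numGeomBranches_tensor_field k Ap K q hq]
  exact (numBranches_eq_of_ringEquiv ((IsLocalization.ringEquivOfRingEquiv (M := q.primeCompl) (T := M.primeCompl)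
      (Localization.AtPrime q) (Localization.AtPrime M) c (by
        ext x
        simp only [Submonoid.mem_map, Ideal.mem_primeCompl_iff, q, Ideal.mem_comap]
        exact ⟨fun ⟨w, hw, h⟩ => h ▸ hw, fun hx => ⟨c.symm x, by simpa using hx, c.apply_symm_apply x⟩⟩)).trans e1)).1

end Groth.Agent.BranchCount
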