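import Groth.Agent.BranchCount.Basic
import Groth.Agent.Branch.EtaleNbhds

/-!
# Minimal primes along maps out of henselizations
-/

set_option autoImplicit false
universe u

open TensorProduct IsLocalRing

namespace Groth.Agent.BranchCount

open Groth.Agent.Hensel

theorem comap_mem_minimalPrimes_of_flat {R T : Type u} [CommRing R] [CommRing T] [Algebra R T] [Module.Flat R T]
    {P : Ideal T} (hP : P ∈ minimalPrimes T) : P.comap (algebraMap R T) ∈ minimalPrimes R :=
  NormSH.minimal_under_of_flat R (B := T) hP

theorem exists_minimal_of_injective {R T : Type u} [CommRing R] [CommRing T] (f : R →+* T)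
    (hf : Function.Injective f) {p : Ideal R} (hp : p ∈ minimalPrimes R) :
    ∃ P ∈ minimalPrimes T, P.comap f = p := by
  obtain ⟨Q, hQ, hQp⟩ := Ideal.exists_comap_eq_of_mem_minimalPrimes f (I := (⊥ : Ideal T)) p (by
    rwa [show Ideal.comap f ⊥ = (⊥ : Ideal R) from RingHom.ker_eq_bot_iff_eq_zero f |>.2 fun x hx => hf (hx.trans (map_zero f).symm)])
  haveI := hQ
  obtain ⟨P, hP, hle⟩ := Ideal.exists_minimalPrimes_le (I := (⊥ : Ideal T)) (J := Q) bot_le
  have h1 : P.comap f ≤ p := hQp.2 ▸ Ideal.comap_mono hle
  exact ⟨P, hP, le_antisymm h1 (hp.2 ⟨hP.1.1.comap _, bot_le⟩ h1)⟩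

variable {R K : Type u} [CommRing R] [Field K] [Algebra R K]

section LocalMap

variable {T : Type u} [CommRing T] [IsLocalRing T] [Algebra R T] [Module.Flat R T]
  (f : Hens R K →ₐ[R] T) (hloc : ∀ z, IsUnit (f z) → IsUnit z)

include hloc in
theorem stage_flat_local (X : Nbhd R K) :
    let g := f.toRingHom.comp (Branch.stageMap X)
    g.Flat ∧ Function.Injective g := by
  intro g
  let q := RingHom.ker X.point.toRingHom
  letI : Algebra X.carrier T := (f.comp (Hens.of X)).toRingHom.toAlgebra
  haveI : IsScalarTower R X.carrier T := IsScalarTower.of_algebraMap_eq fun r => ((f.comp (Hens.of X)).commutes r).symm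
  haveI : Module.Flat X.carrier T := Algebra.FormallyUnramified.flat_of_restrictScalars R X.carrier T
  letI : Algebra (Localization.AtPrime q) T := g.toAlgebra
  haveI : IsScalarTower X.carrier (Localization.AtPrime q) T := IsScalarTower.of_algebraMap_eq fun e => by
    show f (Hens.of X e) = f (Branch.stageMap X (algebraMap X.carrier _ e))
    rw [Branch.stageMap, IsLocalization.lift_eq]
    rfl
  haveI : Module.Flat (Localization.AtPrime q) T :=
    (Module.flat_iff_of_isLocalization (Localization.AtPrime q) q.primeCompl _).2 inferInstance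
  haveI : IsLocalHom (algebraMap (Localization.AtPrime q) T) := ⟨fun z hz => by
    obtain ⟨x, s, rfl⟩ := IsLocalization.exists_mk'_eq q.primeCompl z
    have h1 : IsUnit (Branch.stageMap X (IsLocalization.mk' _ x s)) := hloc _ hz
    have h2 := h1.map (Hens.π R K)
    rw [Branch.stageMap, IsLocalization.lift_mk', map_mul, IsUnit.mul_iff] at h2
    refine IsLocalization.AtPrime.isUnit_mk'_iff _ q x s |>.2 fun (hx : X.point x = 0) => ?_
    exact h2.1.ne_zero ((Hens.π_of X x).trans hx)⟩
  haveI := Module.FaithfullyFlat.of_flat_of_isLocalHom (A := Localization.AtPrime q) (B := T)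
  exact ⟨‹Module.Flat (Localization.AtPrime q) T›, FaithfulSMul.algebraMap_injective (Localization.AtPrime q) T⟩

include hloc in
theorem hens_hom_injective : Function.Injective f := by
  rw [injective_iff_map_eq_zero]
  intro z hz
  obtain ⟨X, x, rfl⟩ := Hens.exists_rep z
  have h1 : (f.toRingHom.comp (Branch.stageMap X)) (algebraMap X.carrier _ x) = 0 := by
    show f (Branch.stageMap X (algebraMap X.carrier _ x)) = 0
    rw [Branch.stageMap, IsLocalization.lift_eq]
    exact hz
  have h2 := (stage_flat_local f hloc X).2 (h1.trans (map_zero _).symm)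
  have h3 := congrArg (Branch.stageMap X) h2
  rw [Branch.stageMap, IsLocalization.lift_eq, map_zero] at h3
  exact h3

include hloc in
theorem comap_hens_mem_minimalPrimes {P : Ideal T} (hP : P ∈ minimalPrimes T) :
    P.comap f.toRingHom ∈ minimalPrimes (Hens R K) := by
  haveI := hP.1.1
  refine ⟨⟨Ideal.IsPrime.comap _, bot_le⟩, fun Q hQ hQP z hz => ?_⟩
  obtain ⟨X, x, rfl⟩ := Hens.exists_rep z
  let g := f.toRingHom.comp (Branch.stageMap X)
  letI : Algebra (Localization.AtPrime (RingHom.ker X.point.toRingHom)) T := g.toAlgebra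
  haveI : Module.Flat (Localization.AtPrime (RingHom.ker X.point.toRingHom)) T := (stage_flat_local f hloc X).1
  have hmin := comap_mem_minimalPrimes_of_flat (R := Localization.AtPrime (RingHom.ker X.point.toRingHom)) hP
  have h1 := hmin.2 ⟨(hQ.1).comap (Branch.stageMap X), bot_le⟩ fun w hw => hQP hw
  have h2 : algebraMap X.carrier (Localization.AtPrime (RingHom.ker X.point.toRingHom)) x ∈
      P.comap (algebraMap (Localization.AtPrime (RingHom.ker X.point.toRingHom)) T) := by
    show f (Branch.stageMap X (algebraMap X.carrier _ x)) ∈ P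
    rw [Branch.stageMap, IsLocalization.lift_eq]
    exact hz
  have h3 := h1 h2
  rw [Ideal.mem_comap, Branch.stageMap, IsLocalization.lift_eq] at h3
  exact h3

include hloc in
theorem card_hens_le : ENat.card (minimalPrimes (Hens R K)) ≤ ENat.card (minimalPrimes T) := by
  choose P hP hPc using fun p : minimalPrimes (Hens R K) =>
    exists_minimal_of_injective f.toRingHom (hens_hom_injective f hloc) p.2
  refine ENat.card_le_card_of_injective (f := fun p => (⟨P p, hP p⟩ : minimalPrimes T)) fun p p' h => ?_
  have h' : P p = P p' := congrArg Subtype.val h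
  exact Subtype.ext ((hPc p).symm.trans ((congrArg (Ideal.comap f.toRingHom) h').trans (hPc p')))

end LocalMap

section Count

variable [Module.Flat R (Hens R K)]

theorem card_stage_le (X : Nbhd R K) :
    ENat.card (minimalPrimes (Localization.AtPrime (RingHom.ker X.point.toRingHom))) ≤ ENat.card (minimalPrimes (Hens R K)) := by
  choose P hP hPc using fun p : minimalPrimes (Localization.AtPrime (RingHom.ker X.point.toRingHom)) =>
    exists_minimal_of_injective (Branch.stageMap X) (Branch.stageMap_injective X) p.2
  refine ENat.card_le_card_of_injective (f := fun p => (⟨P p, hP p⟩ : minimalPrimes (Hens R K))) fun p p' h => ?_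
  have h' : P p = P p' := congrArg Subtype.val h
  exact Subtype.ext ((hPc p).symm.trans ((congrArg (Ideal.comap (Branch.stageMap X)) h').trans (hPc p')))

theorem exists_stage_ge (n : ℕ) (hn : (n : ℕ∞) ≤ ENat.card (minimalPrimes (Hens R K))) :
    ∃ X : Nbhd R K, (n : ℕ∞) ≤ ENat.card (minimalPrimes (Localization.AtPrime (RingHom.ker X.point.toRingHom))) := by
  classical
  obtain ⟨e, he⟩ : ∃ e : Fin n → minimalPrimes (Hens R K), Function.Injective e := by
    by_cases hfin : Finite (minimalPrimes (Hens R K))
    · let _ := Fintype.ofFinite (minimalPrimes (Hens R K))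
      rw [ENat.card_eq_coe_fintype_card, Nat.cast_le] at hn
      exact ⟨(Fintype.equivFin _).symm ∘ Fin.castLE hn, (Fintype.equivFin _).symm.injective.comp (Fin.castLE_injective hn)⟩
    · haveI := not_finite_iff_infinite.1 hfin
      exact ⟨_, ((Infinite.natEmbedding _).injective.comp (Fin.val_injective (n := n)))⟩
  have hsep : ∀ ij : Fin n × Fin n, ∃ z, ij.1 ≠ ij.2 → z ∈ (e ij.1).1 ∧ z ∉ (e ij.2).1 := by
    rintro ⟨i, j⟩
    by_cases hij : i = j
    · exact ⟨0, fun h => absurd hij h⟩
    · by_contra hc
      push Not at hc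
      exact hij (he (Subtype.ext (le_antisymm (fun z hz => (hc z).2 hz)
        ((e j).2.2 (e i).2.1 fun z hz => (hc z).2 hz))))
  choose z hz using hsep
  obtain ⟨X, c, hc⟩ := Hens.exists_rep_fintype z
  refine ⟨X, ?_⟩
  let q := RingHom.ker X.point.toRingHom
  letI : Algebra (Localization.AtPrime q) (Hens R K) := (Branch.stageMap X).toAlgebra
  haveI : Module.Flat (Localization.AtPrime q) (Hens R K) :=
    (stage_flat_local (AlgHom.id R (Hens R K)) (fun _ h => h) X).1
  rw [show (n : ℕ∞) = ENat.card (Fin n) by simp]
  refine ENat.card_le_card_of_injective (f := fun i => (⟨_, comap_mem_minimalPrimes_of_flat (R := Localization.AtPrime q) (e i).2⟩ :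
    minimalPrimes (Localization.AtPrime q))) fun i j h => ?_
  by_contra hij
  obtain ⟨h1, h2⟩ := hz (i, j) hij
  have h' := congrArg Subtype.val h
  rw [← hc (i, j)] at h1 h2
  have h3 : algebraMap X.carrier (Localization.AtPrime q) (c (i, j)) ∈ (e i).1.comap (algebraMap (Localization.AtPrime q) (Hens R K)) := by
    show Branch.stageMap X (algebraMap X.carrier (Localization.AtPrime q) (c (i, j))) ∈ (e i).1
    rw [Branch.stageMap, IsLocalization.lift_eq]
    exact h1
  simp only at h'
  rw [h', Ideal.mem_comap] at h3
  replace h3 : Branch.stageMap X (algebraMap X.carrier (Localization.AtPrime q) (c (i, j))) ∈ (e j).1 := h3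
  rw [Branch.stageMap, IsLocalization.lift_eq] at h3
  exact h2 h3

end Count

end Groth.Agent.BranchCount
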